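import Mathlib
import Cfsg.Agent.Bicyc.Cyc
import Cfsg.Agent.Fus.P5Aut
import Cfsg.Agent.Fus.Act
import Cfsg.Agent.Fus.EssTools
import Cfsg.Agent.S4397

/-!
Essential subgroups generated by at most three elements: index two in the normalizer and an
inverted automorphism of order three.
-/

set_option autoImplicit false

namespace Cfsg.Agent.Bicyc

open Cfsg Cfsg.FusionSystem Cfsg.Agent.Fus Subgroup Cfsg.Agent.FT.R2 Cfsg.Agent.Fus.AC
open scoped commutatorElement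

variable {X : Type*} [Group X]

theorem sq_mem_frattini [Finite X] (hX : IsPGroup 2 X) (x : X) : x * x ∈ frattini X :=
  pow_two x ▸ Grp.PFrattini.pow_mem_frattini hX x

theorem quot_sq [Finite X] (hX : IsPGroup 2 X) (x : X ⧸ frattini X) : x * x = 1 := by
  obtain ⟨x, rfl⟩ := QuotientGroup.mk_surjective x
  exact (QuotientGroup.eq_one_iff (x * x)).2 (sq_mem_frattini hX x)

theorem comm_of_sq (h : ∀ x : X, x * x = 1) (x y : X) : x * y = y * x := by
  have k : ∀ x : X, x⁻¹ = x := fun x => inv_eq_of_mul_eq_one_right (h x)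
  rw [← k (x * y), mul_inv_rev, k, k]

theorem frattini_le_of_sq [Finite X] {N : Subgroup X} (h : ∀ g, g * g ∈ N) : frattini X ≤ N :=
  Grp.PFrattini.frattini_le (p := 2) (commutator_le.2 fun a _ b _ => by
    have := mul_mem (mul_mem (h a) (h (a⁻¹ * b))) (h b⁻¹)
    simpa [commutatorElement_def, mul_assoc] using this) fun g => (pow_two g).symm ▸ h g

theorem eq_of_le_of_index_le [Finite X] {H K : Subgroup X} (h : H ≤ K) (hi : H.index ≤ K.index) :
    H = K := h.eq_or_lt.resolve_right fun h' => (index_strictAnti h').not_ge hi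

theorem exists_tv [Finite X] (h : ∀ x : X, x * x = 1) (h8 : Nat.card X ≤ 8) {t : MulAut X}
    (t1 : t ≠ 1) (t2 : t * t = 1) : ∃ z, Tv 2 t z := by
  have hc := comm_of_sq h
  have hX : IsPGroup 2 X := fun g => ⟨1, by rw [pow_one, pow_two, h]⟩
  let φ : X →* X := MonoidHom.mk' (fun g => g⁻¹ * t g) fun a b => by
    rw [map_mul, mul_inv_rev, hc b⁻¹, mul_assoc, mul_assoc, ← mul_assoc b⁻¹, hc b⁻¹, mul_assoc]
  have k : ∀ g, g ∈ φ.ker ↔ t g = g := fun g => inv_mul_eq_one.trans eq_comm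
  have h1 : φ.range ≤ φ.ker := by
    rintro _ ⟨g, rfl⟩
    refine (k _).2 (show t (g⁻¹ * t g) = g⁻¹ * t g from ?_)
    rw [map_mul, map_inv, ← MulAut.mul_apply, t2, MulAut.one_apply,
      inv_eq_of_mul_eq_one_right (h _), inv_eq_of_mul_eq_one_right (h _), hc]
  refine tv_of_fix hX hc (fun x => (pow_two x).trans (h x)) (k := 1) (by rw [pow_one, pow_two, t2])
    (M := φ.ker) ?_ fun u hu => (k u).1 hu
  have h2 := φ.ker.card_mul_index
  have h3 := Subgroup.card_le_of_le h1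
  rw [← index_ker] at h3
  have h4 : φ.ker.index ≠ 1 := fun e => t1 (MulEquiv.ext fun g => (k g).1 (index_eq_one.1 e ▸ mem_top g))
  have h5 : φ.ker.index ≠ 0 := index_ne_zero_of_finite
  have h6 : φ.ker.index < 3 := by nlinarith
  omega

theorem tv_cube [Finite X] (hsq : ∀ x : X, x * x = 1) {τ σ : MulAut X} {z w : X} (hz' : Tv 2 τ z)
    (h' : Tv 2 σ w) (h1 : τ w ≠ w) (h2 : σ z ≠ z) : (τ * σ) ^ 3 = 1 ∧ τ * σ ≠ 1 := by
  have hc := comm_of_sq hsq
  have mv2 : ∀ {t : MulAut X} {z w}, Tv 2 t z → t w ≠ w → t w = w * z :=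
    fun {t z w} h e => by
      obtain ⟨k, hk⟩ := h.mem w
      rcases zpow_cases (hsq z) k with ⟨-, e'⟩ | ⟨-, e'⟩ <;> simp only [e'] at hk
      · exact (e (inv_mul_eq_one.1 hk.symm).symm).elim
      · rw [hk]; group
  have e1 : (τ * σ) z = w := by
    rw [MulAut.mul_apply, mv2 h' h2, map_mul, hz'.fix, mv2 hz' h1, hc w, ← mul_assoc, hsq, one_mul]
  have e2 : (τ * σ) w = w * z := by rw [MulAut.mul_apply, h'.fix, mv2 hz' h1]
  have e3 : (τ * σ) (w * z) = z := by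
    rw [map_mul, e1, e2, hc w, mul_assoc, hsq, mul_one]
  refine ⟨?_, fun e => h1 (by rw [← e1, e]; exact hz'.fix)⟩
  ext g
  obtain ⟨d, d1, d2, v, hv, rfl⟩ := (hz'.pair hc h' h1 h2).1 g
  have e4 : (τ * σ) d = d := by rw [MulAut.mul_apply, d2, d1]
  have e5 : ∀ u, ((τ * σ) ^ 3) u = (τ * σ) ((τ * σ) ((τ * σ) u)) := fun u => by
    rw [pow_succ, pow_two]; rfl
  have : zpowers z ⊔ zpowers w ≤ fix₁ ((τ * σ) ^ 3) := sup_le
    (zpowers_le.2 (by rw [mem_fix₁, e5, e1, e2, e3])) (zpowers_le.2 (by rw [mem_fix₁, e5, e2, e3, e1]))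
  rw [map_mul, mem_fix₁.1 (this hv), e5, e4, e4, e4]; rfl

theorem eq_one_of_two_three {H : Type*} [Group H] {x : H} {i j : ℕ} (hi : x ^ 2 ^ i = 1)
    (hj : x ^ 3 ^ j = 1) : x = 1 := by
  have := pow_gcd_eq_one.2 ⟨hi, hj⟩
  rwa [Nat.Coprime.gcd_eq_one (Nat.Coprime.pow i j (by norm_num)), pow_one] at this

theorem invert_lift [Finite X] (hX : IsPGroup 2 X) {t b : MulAut X} (b3 : b ^ 3 = 1)
    (hi : t * b * t⁻¹ * b ∈ Inn X) : ∃ i ∈ Inn X, i * t * b * (i * t)⁻¹ = b⁻¹ := by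
  have : Fact (Nat.Prime 3) := ⟨Nat.prime_three⟩
  have hB : IsPGroup 3 (zpowers b) := isPGroup_zpowers (k := 1) (by simpa using b3)
  have nI : ∀ g : MulAut X, g ∈ normalizer ((Inn X : Subgroup (MulAut X)) : Set (MulAut X)) :=
    fun g => mem_normalizer_of_conj_mem fun x hx => conj_mem_inn g hx
  have k : ∀ B : Subgroup (MulAut X), IsPGroup 3 B → ∀ x ∈ B, x ∈ Inn X → x = 1 := fun B h3 x hx h4 => by
    obtain ⟨i, hi⟩ := exists_pow_inn hX h4
    obtain ⟨j, hj⟩ := exists_pow_of_mem h3 hx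
    exact eq_one_of_two_three hi hj
  have hS3 : SylIn 3 (zpowers b) (zpowers b ⊔ Inn X) :=
    SylIn.sup_of_normalizes hB (fun g _ => nI g) (sylIn_of_max inf_le_right (hB.to_le inf_le_left)
      fun B h3 _ h4 x hx => k B h3 x hx (h4 hx) ▸ one_mem _)
  obtain ⟨n, hn, hn'⟩ := hS3.frattini le_sup_left (g := t) (mem_normalizer_of_conj_mem fun x hx =>
    (sup_le (c := (zpowers b ⊔ Inn X).comap (MulAut.conj t).toMonoidHom)
      (zpowers_le.2 (by
        have := mul_mem (mem_sup_right hi) (mem_sup_left (inv_mem (mem_zpowers b)))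
        rwa [mul_inv_cancel_right] at this))
      (fun y hy => mem_sup_right (conj_mem_inn t hy))) hx)
  obtain ⟨c, hc', i, hi', rfl⟩ := exists_mul_of_mem_sup (fun g _ => nI g) hn
  have hn2 : i * t ∈ normalizer ((zpowers b : Subgroup (MulAut X)) : Set (MulAut X)) := by
    simpa [mul_assoc] using mul_mem (inv_mem (le_normalizer hc')) hn'
  refine ⟨i, hi', eq_inv_iff_mul_eq_one.2 (k _ hB _
    (mul_mem ((mem_normalizer_iff.1 hn2 _).1 (mem_zpowers b)) (mem_zpowers b)) ?_)⟩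
  have := mul_mem (mul_mem hi' hi) (conj_mem_inn b⁻¹ (inv_mem hi'))
  simpa [mul_assoc] using this

theorem card_le_two [Finite X] (hsq : ∀ x : X, x * x = 1) (h8 : Nat.card X ≤ 8)
    (h2 : ¬ Nat.card X ∣ 2) {𝒜 T M : Subgroup (MulAut X)} (hT : SylIn 2 T 𝒜) (hle : T ≤ 𝒜)
    (hMA : M ≤ 𝒜) (hM : ∀ g ∈ 𝒜, ∀ t ∈ T, t ≠ 1 → g * t * g⁻¹ ∈ T → g ∈ M) (hne : ¬ 𝒜 ≤ M) :
    Nat.card T ≤ 2 := by
  have hc := comm_of_sq hsq
  have hX : IsPGroup 2 X := fun g => ⟨1, by rw [pow_one, pow_two, hsq]⟩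
  obtain ⟨k, hk⟩ := IsPGroup.iff_card.1 hX
  have h1 : k ≤ 3 := (Nat.pow_le_pow_iff_right one_lt_two).1 (hk ▸ h8)
  have h2 : 2 ≤ k := by_contra fun h => h2 (hk ▸ pow_dvd_pow 2 (show k ≤ 1 by omega))
  obtain rfl | rfl : k = 2 ∨ k = 3 := by omega
  · have : Nontrivial X := Finite.one_lt_card_iff_nontrivial.1 (by rw [hk]; norm_num)
    have : IsKleinFour X := ⟨hk, (Monoid.exponent_eq_prime_iff Nat.prime_two).2
      fun g hg => orderOf_eq_prime ((pow_two g).trans (hsq g)) hg⟩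
    have h3 := card_subgroup_dvd_card T
    obtain ⟨j, hj⟩ := IsPGroup.iff_card.1 (hT.isPGroup hle)
    rw [Inv.card_mulAut_kleinFour, hj] at h3
    rw [hj]
    rcases j with _ | _ | j
    · norm_num
    · norm_num
    · exact absurd ((Dvd.intro_left (2 ^ j) (by ring) : 4 ∣ 2 ^ (j + 1 + 1)).trans h3) (by norm_num)
  · exact card_le_of_rank_three hk hc (fun x => (pow_two x).trans (hsq x)) hT hle hMA hM hne

theorem rep_core {A : Type*} [Group A] [Finite A] [Finite X] (hsq : ∀ x : X, x * x = 1)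
    (h8 : Nat.card X ≤ 8) (h2 : ¬ Nat.card X ∣ 2) (ρ : A →* MulAut X) {T M : Subgroup A}
    (hT : SylIn 2 T ⊤) (hI : ρ.ker ≤ T) (hTI : ¬ T ≤ ρ.ker) (hTM : T ≤ M)
    (hM : ∀ g, ∀ t ∈ T, ρ t ≠ 1 → g * t * g⁻¹ ∈ T → g ∈ M) (hne : M ≠ ⊤) :
    ∃ t ∈ T, ρ t ≠ 1 ∧ (∀ u ∈ T, ρ u = 1 ∨ ρ u = ρ t) ∧
      ∃ γ, ρ γ ^ 3 = 1 ∧ ρ γ ≠ 1 ∧ ρ t * ρ γ * (ρ t)⁻¹ = (ρ γ)⁻¹ := by
  have hX : IsPGroup 2 X := fun g => ⟨1, by rw [pow_one, pow_two, hsq]⟩
  have hs := hT.map le_top ρ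
  have lift : ∀ K : Subgroup A, ρ.ker ≤ K → ∀ a, ρ a ∈ K.map ρ → a ∈ K := by
    rintro K hK a ⟨b, hb, e⟩
    have := mul_mem hb (hK (show ρ (b⁻¹ * a) = 1 by simp [e]))
    rwa [mul_inv_cancel_left] at this
  have hc2 : Nat.card (T.map ρ) ≤ 2 := by
    refine card_le_two hsq h8 h2 hs (map_mono le_top) (M := M.map ρ) (map_mono le_top) ?_
      fun h => hne (eq_top_iff.2 fun a _ => lift M (hI.trans hTM) a (h ⟨_, trivial, rfl⟩))
    rintro _ ⟨g, -, rfl⟩ _ ⟨t, ht, rfl⟩ t1 h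
    exact ⟨g, hM g t ht t1 (lift T hI _ (by rwa [map_mul, map_mul, map_inv])), rfl⟩
  obtain ⟨t, ht, τ1⟩ := SetLike.not_le_iff_exists.1 hTI
  rw [MonoidHom.mem_ker] at τ1
  have τT : ρ t ∈ T.map ρ := ⟨_, ht, rfl⟩
  have two : ∀ u ∈ T.map ρ, u = 1 ∨ u = ρ t := fun u hu => by
    by_contra hn
    push Not at hn
    have h1 : ({1, ρ t, u} : Set _) ⊆ T.map ρ := by
      rintro _ (rfl | rfl | rfl)
      exacts [one_mem _, τT, hu]
    have h2 := Set.ncard_le_ncard h1 (Set.toFinite _)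
    rw [Set.ncard_eq_three.2 ⟨_, _, _, Ne.symm τ1, hn.1.symm, hn.2.symm, rfl⟩] at h2
    exact absurd (h2.trans hc2) (by norm_num)
  have τ2 : ρ t * ρ t = 1 := (two _ (mul_mem τT τT)).resolve_right (by simpa using τ1)
  have hz : T.map ρ = zpowers (ρ t) := le_antisymm (fun u hu => by
    rcases two u hu with rfl | rfl
    exacts [one_mem _, mem_zpowers _]) (zpowers_le.2 τT)
  obtain ⟨z, hz'⟩ := exists_tv hsq h8 τ1 τ2
  obtain ⟨α, -, hα'⟩ := SetLike.exists_of_lt (lt_top_iff_ne_top.2 hne)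
  have mv : ∀ γ, γ ∉ M → ρ t (ρ γ z) ≠ ρ γ z := fun γ hγ e =>
    hγ (hM γ t ht τ1 (lift T hI _ (by
      rw [hz, map_mul, map_mul, map_inv]
      exact hz'.conj_mem hX (𝒜 := (⊤ : Subgroup A).map ρ) ⟨_, trivial, rfl⟩ (hz ▸ hs)
        ⟨γ, trivial, rfl⟩ e)))
  have h2 : (ρ α * ρ t * (ρ α)⁻¹) z ≠ z := fun e => mv α⁻¹ (mt inv_mem_iff.1 hα') (by
    rw [map_inv]; exact (ρ α).injective (by simpa using e))
  obtain ⟨w3, w1⟩ := tv_cube hsq hz' (hz'.conj (ρ α)) (mv α hα') h2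
  refine ⟨t, ht, τ1, fun u hu => two _ ⟨u, hu, rfl⟩, t * (α * t * α⁻¹), ?_⟩
  rw [map_mul, map_mul, map_mul, map_inv]
  refine ⟨w3, w1, ?_⟩
  rw [← mul_assoc (ρ t), τ2, one_mul, mul_inv_rev, mul_left_inj, conj_inv,
    inv_eq_of_mul_eq_one_right τ2]

theorem aut_core [Finite X] (hX : IsPGroup 2 X) (h8 : (frattini X).index ≤ 8)
    {𝒜 T M : Subgroup (MulAut X)} (hE : Ess 2 𝒜) (hT : SylIn 2 T 𝒜) (hI : Inn X ≤ T)
    (hTI : ¬ T ≤ Inn X) (hle : T ≤ 𝒜) (hTM : T ≤ M)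
    (hM : ∀ g ∈ 𝒜, ∀ t ∈ T, t ∉ Inn X → g * t * g⁻¹ ∈ T → g ∈ M) (hne : ¬ 𝒜 ≤ M) :
    ∃ t ∈ T, t ∉ Inn X ∧ (∀ u ∈ T, u ∈ Inn X ∨ t⁻¹ * u ∈ Inn X) ∧
      ∃ β : MulAut X, β ≠ 1 ∧ β ^ 3 = 1 ∧ t * β * t⁻¹ = β⁻¹ := by
  obtain ⟨ρ, hρ⟩ := exists_quotHom (inv_of_char 𝒜 (frattini X))
  have hsq := quot_sq hX
  have ker : ∀ a : 𝒜, ρ a = 1 ↔ (a : MulAut X) ∈ Inn X := fun a => ⟨fun e =>
    hE.mem_inn_of_frattini hX a.2 fun y => QuotientGroup.eq.1 (by rw [← hρ, e]; rfl), fun ⟨g, e⟩ => by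
      ext v
      obtain ⟨v, rfl⟩ := QuotientGroup.mk_surjective v
      rw [hρ, ← e]
      simp [comm_of_sq hsq (g : X ⧸ frattini X)]⟩
  obtain ⟨t, ht, t1, two, γ, w3, w1, wi⟩ := rep_core hsq h8 (hE.not_flag_one hX) ρ
    (T := T.subgroupOf 𝒜) (M := M.subgroupOf 𝒜) (sylIn_top_iff.2 hT) (fun a ha => hI ((ker a).1 ha))
    (fun h => hTI fun a ha => (ker ⟨a, hle ha⟩).1 (h ha)) (fun a ha => hTM ha)
    (fun g t ht t1 h => hM g g.2 t ht (mt (ker t).2 t1) h) (mt subgroupOf_eq_top.1 hne)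
  obtain ⟨k, hk⟩ := exists_pow_inn hX ((ker (γ ^ 3)).1 (by rw [map_pow, w3]))
  have hk' : (γ ^ 2 ^ k) ^ 3 = 1 := Subtype.ext (by
    rw [← pow_mul, mul_comm, pow_mul]; simpa using hk)
  have b1 : ρ (γ ^ 2 ^ k) ≠ 1 := fun e => w1 (eq_one_of_two_three (j := 1) (map_pow ρ γ _ ▸ e) w3)
  have bi : ρ t * ρ (γ ^ 2 ^ k) * (ρ t)⁻¹ = (ρ (γ ^ 2 ^ k))⁻¹ := by
    rw [map_pow, ← conj_pow, wi, inv_pow]
  generalize γ ^ 2 ^ k = b at hk' b1 bi
  have b3 : (b : MulAut X) ^ 3 = 1 := congrArg Subtype.val hk'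
  obtain ⟨i, hi, e⟩ := invert_lift hX b3 (t := t) ((ker (t * b * t⁻¹ * b)).1 (by
    rw [map_mul, map_mul, map_mul, map_inv, bi, inv_mul_cancel]))
  have ρi : ρ (⟨i, hle (hI hi)⟩ * t) = ρ t := by rw [map_mul, (ker _).2 hi, one_mul]
  refine ⟨i * t, mul_mem (hI hi) ht, fun h => t1 (ρi ▸ (ker _).2 h), fun u hu => ?_, b,
    fun e => b1 ((ker b).2 (e ▸ one_mem _)), b3, e⟩
  rcases two ⟨u, hle hu⟩ hu with e | e
  · exact .inl ((ker _).1 e)
  · exact .inr ((ker ((⟨i, hle (hI hi)⟩ * t)⁻¹ * ⟨u, hle hu⟩)).1 (by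
      rw [map_mul, map_inv, ρi, e, inv_mul_cancel]))

/-- There is a metacyclic subgroup of index at most two. -/
def HM (X : Type*) [Group X] : Prop := ∃ K : Subgroup X, K.index ∣ 2 ∧ IsMetacyclic K

theorem normal_of_index_dvd_two {K : Subgroup X} (h : K.index ∣ 2) : K.Normal := by
  rcases (Nat.dvd_prime Nat.prime_two).1 h with h | h
  · rw [index_eq_one.1 h]; infer_instance
  · exact normal_of_index_eq_two h

theorem HM.of_injective {Y : Type*} [Group Y] (h : HM X) (f : Y →* X) (hf : Function.Injective f) :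
    HM Y := by
  obtain ⟨K, h1, h2⟩ := h
  have := normal_of_index_dvd_two h1
  exact ⟨K.comap f, by rw [index_comap]; exact (relIndex_dvd_index_of_normal _ _).trans h1,
    isMetacyclic_of_injective (f.subgroupComap K) (fun a b e => Subtype.ext (hf
      (congrArg Subtype.val e))) h2⟩

theorem HM.sub (h : HM X) (H : Subgroup X) : HM H := h.of_injective H.subtype H.subtype_injective

theorem HM.index_le [Finite X] (hX : IsPGroup 2 X) (h : HM X) : (frattini X).index ≤ 8 := by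
  obtain ⟨K, h1, h2⟩ := h
  set π := QuotientGroup.mk' (frattini X)
  have h3 := card_le_of_meta (isMetacyclic_of_surjective (π.subgroupMap K) (π.subgroupMap_surjective K) h2)
    fun g => Subtype.ext (quot_sq hX g)
  have h4 := Nat.le_of_dvd two_pos
    ((index_map_dvd K (QuotientGroup.mk'_surjective (frattini X))).trans h1)
  calc _ = Nat.card (K.map π) * (K.map π).index := (card_mul_index _).symm
    _ ≤ 4 * 2 := Nat.mul_le_mul h3 h4

theorem meta_of_coatom [Finite X] (hX : IsPGroup 2 X) (h4 : (frattini X).index ≤ 2 ^ 2)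
    (h : ∀ T : Subgroup X, IsCoatom T → IsMetacyclic T) : IsMetacyclic X := by
  refine S4397.result hX fun H N _ A _ hA => ?_
  set B := A.comap (QuotientGroup.mk' N)
  let f : B →* A := (QuotientGroup.mk' N).subgroupComap A
  have hf : Function.Surjective f :=
    MonoidHom.subgroupComap_surjective_of_surjective _ A (QuotientGroup.mk'_surjective N)
  let e := B.equivMapOfInjective H.subtype H.subtype_injective
  have hA' : ∀ g : A, g * g = 1 := fun g => Subtype.ext ((pow_two _).symm.trans (hA g g.2))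
  rcases eq_top_or_exists_le_coatom (B.map H.subtype) with h1 | ⟨T, hT, h1⟩
  · let φ : X →* A := f.comp (e.symm.toMonoidHom.comp (MonoidHom.codRestrict (MonoidHom.id X) _
      fun x => h1 ▸ mem_top x))
    have hφ : Function.Surjective φ := hf.comp (e.symm.surjective.comp fun x => ⟨x, rfl⟩)
    have h2 := index_antitone (frattini_le_of_sq (N := φ.ker) fun g => by
      rw [MonoidHom.mem_ker, map_mul, hA'])
    rw [index_ker, MonoidHom.range_eq_top.2 hφ, card_top] at h2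
    exact h2.trans h4
  · exact card_le_of_meta (isMetacyclic_of_surjective (f.comp e.symm.toMonoidHom)
      (hf.comp e.symm.surjective) (isMetacyclic_of_le h1 (h T hT))) hA'

theorem HM.meta_of_aut [Finite X] (hX : IsPGroup 2 X) (h : HM X) (h4 : (frattini X).index ≤ 2 ^ 2)
    {α : MulAut X} (hα : (orderOf α).Coprime 2) (h1 : α ≠ 1) : IsMetacyclic X := by
  obtain ⟨K, k1, k2⟩ := h
  rcases (Nat.dvd_prime Nat.prime_two).1 k1 with k1 | k1
  · exact isMetacyclic_of_surjective K.subtype (fun x => ⟨⟨x, index_eq_one.1 k1 ▸ mem_top x⟩, rfl⟩) k2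
  have Φ : ∀ A : Subgroup X, A.index = 2 → frattini X ≤ A := fun A hA =>
    frattini_le_of_sq fun g => mul_self_mem_of_index_two hA g
  have inf : ∀ A B : Subgroup X, A.index = 2 → B.index = 2 → A ≠ B → ∀ x ∈ A, x ∈ B →
      x ∈ frattini X := fun A B hA hB hne x h1 h2 => by
    have h5 : (A ⊓ B).index ≠ 0 := index_ne_zero_of_finite
    have h6 : ¬ (A ⊓ B).index ≤ 2 := fun h6 => hne (by
      have k : ∀ C : Subgroup X, C.index = 2 → A ⊓ B ≤ C → A ⊓ B = C := fun C hC hl =>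
        eq_of_le_of_index_le hl (hC ▸ h6)
      exact (k A hA inf_le_left).symm.trans (k B hB inf_le_right))
    obtain ⟨k, hk⟩ := hX.index (A ⊓ B)
    have h7 : 2 ^ 2 ≤ (A ⊓ B).index := by
      rw [hk] at h6 ⊢
      exact Nat.pow_le_pow_right two_pos (by_contra fun h => h6
        (Nat.pow_le_pow_right two_pos (show k ≤ 1 by omega)))
    exact eq_of_le_of_index_le (le_inf (Φ A hA) (Φ B hB)) (h4.trans h7) ▸ (⟨h1, h2⟩ : x ∈ A ⊓ B)
  have mv : ∀ β : MulAut X, (orderOf β).Coprime 2 → β ≠ 1 → ∀ A : Subgroup X, A.index = 2 →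
      A.comap β.toMonoidHom ≠ A ∧ ¬ A ≤ frattini X := fun β b1 b2 A hA => by
    have h5 : ¬ A ≤ frattini X := fun h => by
      have e := le_antisymm h (Φ A hA)
      exact b2 (eq_one_of_frattini hX b1 fun y => by
        rw [← e, mul_mem_iff_of_index_two hA, inv_mem_iff, e]
        exact ((inv_of_char ⊤ (frattini X)).mem_iff trivial).symm)
    refine ⟨fun e => ?_, h5⟩
    rcases Grp.MetaAut.inv_le_or hX h4 b1 b2 (U := A) fun x hx => (e.ge hx :) with h | h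
    · exact h5 h
    · simp [h] at hA
  have ix : ∀ (β : MulAut X) (A : Subgroup X), A.index = 2 → (A.comap β.toMonoidHom).index = 2 :=
    fun β A hA => (index_comap_of_surjective A β.surjective).trans hA
  have mt : ∀ β : MulAut X, IsMetacyclic (K.comap β.toMonoidHom) := fun β =>
    isMetacyclic_of_injective (β.toMonoidHom.subgroupComap K) (fun a b e => Subtype.ext
      (β.injective (congrArg Subtype.val e))) k2
  have α2 : (orderOf (α * α)).Coprime 2 := Nat.Coprime.coprime_dvd_left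
    (pow_two α ▸ orderOf_pow_dvd 2) hα
  have α2' : α * α ≠ 1 := fun e => h1 (orderOf_eq_one_iff.1 (Nat.Coprime.eq_one_of_dvd hα
    (orderOf_dvd_of_pow_eq_one ((pow_two α).trans e))))
  refine meta_of_coatom hX h4 fun T hT => by_contra fun hn => ?_
  have t2 := Grp.PFrattini.index_of_isCoatom hX hT
  have n1 : K ≠ T := fun e => hn (e ▸ k2)
  have n2 : K.comap α.toMonoidHom ≠ T := fun e => hn (e ▸ mt α)
  have n3 : K.comap (α * α).toMonoidHom ≠ T := fun e => hn (e ▸ mt (α * α))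
  have i2 := ix α K k1
  have i3 := ix (α * α) K k1
  have n4 : K.comap (α * α).toMonoidHom ≠ K.comap α.toMonoidHom := (mv α hα h1 _ i2).1
  obtain ⟨a, a1, a2⟩ := SetLike.not_le_iff_exists.1 (mv α hα h1 K k1).2
  obtain ⟨b, b1, b2⟩ := SetLike.not_le_iff_exists.1 (mv α hα h1 _ i2).2
  have c1 := (mul_mem_iff_of_index_two t2).2 (iff_of_false (fun h => a2 (inf _ _ k1 t2 n1 a a1 h))
    fun h => b2 (inf _ _ i2 t2 n2 b b1 h))
  have c2 := (mul_mem_iff_of_index_two i3).2 (iff_of_false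
    (fun h => a2 (inf _ _ i3 k1 (mv _ α2 α2' K k1).1 a h a1)) fun h => b2 (inf _ _ i3 i2 n4 b h b1))
  have c3 := Φ K k1 (inf _ _ i3 t2 n3 _ c2 c1)
  exact b2 (inf _ _ i2 k1 (mv α hα h1 K k1).1 b b1 ((mul_mem_cancel_left a1).1 c3))

/-- The local configuration at an essential subgroup. -/
structure Loc {G : Type*} [Group G] (Q : Subgroup G) (s : G) (β : MulAut Q) : Prop where
  norm : ∀ g, (∀ x ∈ Q, g * x * g⁻¹ ∈ Q) → g ∈ Q ∨ s⁻¹ * g ∈ Q
  s_mem : ∀ x ∈ Q, s * x * s⁻¹ ∈ Q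
  s_not : s ∉ Q
  ne : β ≠ 1
  cube : β ^ 3 = 1
  inv : ∀ x ∈ Q, s * afn β x * s⁻¹ = afn β⁻¹ (s * x * s⁻¹)

theorem exists_loc {G : Type*} [Group G] [Finite G] (hG : IsPGroup 2 G) (h : HM G)
    (h4 : (frattini G).index ≤ 2 ^ 2) (hm : ¬ IsMetacyclic G) {F : FusionSystem (⊤ : Subgroup G)}
    (hF : F.IsSaturated 2) (hne : F ≠ innerFusionSystem ⊤) : ∃ Q s β, Loc (G := G) Q s β := by
  have hS : IsPGroup 2 (⊤ : Subgroup G) := hG.to_subgroup _
  obtain ⟨Q, hQ⟩ : ∃ Q, F.IsEssential 2 Q := by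
    by_contra hn
    push Not at hn
    refine hne (eq_inner_of_isNormal_top (isNormal_top_of_not_ess hS hF fun P _ hP => (hn P hP).elim)
      (autGroup_top_le_inn hS hF fun α _ hα => by_contra fun h1 => hm ?_))
    let e : (⊤ : Subgroup G) ≃* G := topEquiv
    refine h.meta_of_aut hG h4 (α := MulAut.congr e α) (by rwa [MulEquiv.orderOf_eq]) fun e' => h1 ?_
    rwa [MulEquiv.map_eq_one_iff] at e'
  have ha := sat_fullyAutomized hS hF hQ.2.1
  have hC := isCentric_self hQ.1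
  obtain ⟨t, ht, t1, two, β, b1, b3, bi⟩ := aut_core (hG.to_subgroup Q)
    ((h.sub Q).index_le (hG.to_subgroup Q)) (ess_of_essential hS hF hQ) ha.2
    (inn_le_autInducedBy le_top) (essential_cond hQ ha).1 (autInducedBy_le_autGroup F le_top)
    (autInducedBy_le_extAut hS (essential_lt hS hF hQ)) (fun g hg t ht t1 h => by
      obtain ⟨s, hs, rfl⟩ := exists_conjAut_eq ht
      exact mem_extAut hg fun hle => t1 ((conjAut_mem_inn_iff le_top hC hs).2
        (hle (mem_Nf_afn hs h)))) (essential_not_le_extAut hS hF hQ)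
  obtain ⟨s, hs, rfl⟩ := exists_conjAut_eq ht
  refine ⟨Q, s, β, fun g hg => ?_, fun x hx => conj_mem_of_mem_normalizerIn hs hx,
    mt (conjAut_mem_inn_iff le_top hC hs).2 t1, b1, b3, fun x hx => ?_⟩
  · have hg' : g ∈ normalizerIn ⊤ Q := mem_normalizerIn_of_conj trivial hg
    refine (two _ (conjAut_mem_autInducedBy hg')).imp (conjAut_mem_inn_iff le_top hC hg').1 fun h =>
      (conjAut_mem_inn_iff le_top hC (mul_mem (inv_mem hs) hg')).1 ?_
    have := map_mul (normAut ⊤ Q) ⟨s, hs⟩⁻¹ ⟨g, hg'⟩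
    rw [map_inv] at this
    exact (show conjAut Q (s⁻¹ * g) _ = _ from this) ▸ h
  · rw [← afn_conjAut hs.2 hx, ← afn_conjAut hs.2 (afn_mem β hx), ← afn_mul _ _ hx, ← afn_mul _ _ hx,
      ← bi, inv_mul_cancel_right]

end Cfsg.Agent.Bicyc
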