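import Mathlib
import Cfsg.Agent.Bicyc.Janko
import Cfsg.Agent.SylAb.FF
import Cfsg.Agent.Grp.MetaAut
import Cfsg.Agent.S0112
import Cfsg.Agent.S4143
import Cfsg.Agent.S4144

/-! A group without subgroup of index two and with bicyclic Sylow `2`-subgroups has `2`-rank at
most two. -/

set_option autoImplicit false
set_option linter.unusedSectionVars false

namespace Cfsg.Agent.Bicyc

open Cfsg Subgroup Cfsg.Agent.PLocal Cfsg.Agent.PLocal.Amb Cfsg.Agent.PLocal.AG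
open Cfsg.Agent.DxD Cfsg.Agent.FT.R2

variable {G : Type*} [Group G] [Finite G]

theorem card_le_of_class {P : Type*} [Group P] [Finite P] {n : ℕ} (hn : Nat.card P = 2 ^ n)
    (hc : Group.nilpotencyClass P = n - 1) (E : Subgroup P) (he : ∀ g ∈ E, g * g = 1) :
    Nat.card E ≤ 4 := by
  rcases lt_or_ge n 2 with h | h
  · exact (card_le_card_group E).trans (hn ▸ Nat.pow_le_pow_right (n := 2) (i := n) (j := 2)
      (by norm_num) h.le)
  have := S4144.result n h hn hc E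
  rwa [(closure_eq_bot_iff).2 (by rintro _ ⟨g, hg, rfl⟩; simpa [pow_two] using he g hg),
    relIndex_bot_left] at this

theorem zmod_sq {n : ℕ} (a : ZMod (2 ^ (n + 2))) (h : a + a = 0) : ∃ b, a = b + b := by
  obtain ⟨k, rfl⟩ := ZMod.intCast_surjective a
  have : ((2 ^ (n + 2) : ℕ) : ℤ) ∣ k + k := (ZMod.intCast_zmod_eq_zero_iff_dvd _ _).1 (by simpa using h)
  obtain ⟨c, hc⟩ := this
  refine ⟨((2 ^ n * c : ℤ) : ZMod _), ?_⟩
  rw [← Int.cast_add]
  congr 1
  push_cast at hc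
  rw [pow_add] at hc
  linarith

theorem homocyclic {S T X E : Subgroup G} (hS : IsSyl 2 S ⊤) (h : Good 2 S T X) (hT : T ≤ 𝐂[T])
    (hm : IsMetacyclic T) (hsq : ∀ v ∈ T, v * v = 1 → ∃ t ∈ T, v = t * t) (hE : E ≤ S)
    (he : ∀ g ∈ E, g * g = 1) : Nat.card E ≤ 4 := by
  let V : Subgroup G :=
    { carrier := {v | v ∈ T ∧ v * v = 1}
      one_mem' := ⟨one_mem _, by simp⟩
      mul_mem' := fun {a b} ha hb => ⟨mul_mem ha.1 hb.1, by
        rw [mul_assoc, ← mul_assoc b, hT ha.1 b hb.1, mul_assoc, ← mul_assoc, ha.2, hb.2, mul_one]⟩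
      inv_mem' := fun {a} ha => ⟨inv_mem ha.1, by rw [← mul_inv_rev, ha.2, inv_one]⟩ }
  have hVT : V ≤ T := fun v hv => hv.1
  have hV : Nat.card V ≤ 4 := card_le_of_meta (isMetacyclic_of_le hVT hm) fun v => Subtype.ext v.2.2
  have hC : ∀ g ∈ S, g ∈ 𝐂[V] → g ∈ T := fun g hg e =>
    SylAb.mem_of_om hS.pgrp h hT hg fun v hv e1 => e v ⟨hv, e1⟩
  have hVP : V ≤ S ⊓ 𝐍[T] := hVT.trans h.lt.le
  have hi : T.relIndex (S ⊓ 𝐍[T]) = 2 := by
    haveI : (V.subgroupOf (S ⊓ 𝐍[T])).Normal := normal_subgroupOf' fun g hg =>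
      mem_normalizer_of_forall fun v hv =>
        ⟨conj_mem_of_mem_normalizer hg.2 hv.1, by rw [conj_mul, hv.2]; simp⟩
    obtain ⟨a, ha⟩ := ((good_pgrp h).to_le hVT).exists_card_eq
    have h1 := Grp.PChain.index_centralizer_le h.syl.pgrp a (V.subgroupOf (S ⊓ 𝐍[T]))
      (by rw [Nat.card_congr (subgroupOfEquivOfLe hVP).toEquiv, ha])
    have h2 : a ≤ 2 := (Nat.pow_le_pow_iff_right one_lt_two).1 (ha ▸ hV)
    have h3 : a.choose 2 ≤ 1 := by interval_cases a <;> decide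
    have h4 : (𝐂[V]).subgroupOf (S ⊓ 𝐍[T]) = T.subgroupOf (S ⊓ 𝐍[T]) :=
      Subgroup.ext fun g => ⟨hC g.1 g.2.1, fun hg => centralizer_anti hVT (hT hg)⟩
    rw [centralizer_subgroupOf hVP, h4] at h1
    have h5 := h1.trans (Nat.pow_le_pow_right two_pos h3)
    have h6 : T.relIndex (S ⊓ 𝐍[T]) ≠ 1 := fun e => h.lt.not_ge (relIndex_eq_one.1 e)
    have h7 : T.relIndex (S ⊓ 𝐍[T]) ≠ 0 := index_ne_zero_of_finite
    unfold relIndex at *
    omega
  have hP : S ⊓ 𝐍[T] = S := eq_of_inf_normalizer_le hS.pgrp inf_le_left fun w hw =>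
    ⟨hw.1, mem_normalizer_of_forall fun s hs => hC _ (mul_mem (mul_mem hw.1 (h.le hs)) (inv_mem hw.1))
      fun v hv => by
        obtain ⟨t, ht, rfl⟩ := hsq v hv.1 hv.2
        have h1 : w⁻¹ * t * w * (w⁻¹ * t * w) ∈ T := mul_self_mem_of_index_two hi
          ⟨_, inv_conj_mem_of_mem_normalizer hw.2 (h.lt.le ht)⟩
        calc t * t * (w * s * w⁻¹) = w * (w⁻¹ * t * w * (w⁻¹ * t * w) * s) * w⁻¹ := by group
          _ = _ := by rw [hT hs _ h1]; group⟩
  rw [hP] at hi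
  by_cases e : V ≤ E
  · refine (card_le_of_le (K := V) fun g hg => ⟨hC g (hE hg) fun v hv => ?_, he g hg⟩).trans hV
    rw [← inv_eq_of_mul_eq_one_right (he _ (mul_mem (e hv) hg)), mul_inv_rev,
      inv_eq_of_mul_eq_one_right (he g hg), inv_eq_of_mul_eq_one_right hv.2]
  have h1 : T ⊓ E ≤ V := fun g hg => ⟨hg.1, he g hg.2⟩
  have h2 : Nat.card ↥(T ⊓ E) < Nat.card V := lt_of_le_of_ne (card_le_of_le h1) fun e1 =>
    e ((eq_of_le_of_card_ge h1 e1.ge).ge.trans inf_le_right)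
  obtain ⟨c, hc⟩ := card_dvd_of_le h1
  have h3 := relIndex_le_of_le_right hE (hi ▸ two_ne_zero)
  have h4 := Grp.card_inf_mul_relIndex E T
  have h5 : Nat.card ↥(T ⊓ E) ≤ 2 := by
    rcases c with _ | _ | c
    · exact absurd hc Nat.card_pos.ne'
    · omega
    · nlinarith
  rw [hi] at h3
  rw [← h4, inf_comm]
  exact Nat.mul_le_mul h5 h3

theorem good_meta {S T X E : Subgroup G} (hS : IsSyl 2 S ⊤) (h : Good 2 S T X) (hm : IsMetacyclic T)
    (hO : ¬ 𝐎[2, X] ≤ 𝐂[T]) (hE : E ≤ S) (he : ∀ g ∈ E, g * g = 1) : Nat.card E ≤ 4 := by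
  rw [pRes_le_iff] at hO
  push Not at hO
  obtain ⟨g, hg, ho, h1⟩ := hO
  obtain ⟨n, hn⟩ := hS.pgrp.exists_card_eq
  have cE : Nat.card (E.subgroupOf S) = Nat.card E := Nat.card_congr (subgroupOfEquivOfLe hE).toEquiv
  have cT : Nat.card (T.subgroupOf S) = Nat.card T := Nat.card_congr (subgroupOfEquivOfLe h.le).toEquiv
  have hc : 𝐂[T.subgroupOf S] ≤ T.subgroupOf S := by
    rw [centralizer_subgroupOf h.le]; exact fun s hs => h.cent ⟨s.2, hs⟩
  have he' : ∀ g ∈ E.subgroupOf S, g * g = 1 := fun g hg => Subtype.ext (he g hg)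
  rcases Grp.MetaAut.main (good_pgrp h) hm (α := T.normalizerMonoidHom ⟨g, h.least.le' hg⟩)
    (Nat.Coprime.coprime_dvd_left ((orderOf_map_dvd _ _).trans (by simp [← orderOf_coe])) ho)
    (fun e => h1 fun t ht => (mul_inv_eq_iff_eq_mul.1 (show g * t * g⁻¹ = t from
      congrArg Subtype.val (DFunLike.congr_fun e (⟨t, ht⟩ : T)))).symm) with ⟨⟨e⟩⟩ | ⟨k, hk, ⟨e⟩⟩
  · refine cE ▸ card_le_of_class hn (S4143.result n hn (T.subgroupOf S) (by
      rw [cT, Nat.card_congr e.toEquiv, Nat.card_eq_fintype_card, QuaternionGroup.card]; norm_num)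
      (fun hc => ?_) hc) _ he'
    have f := (subgroupOfEquivOfLe h.le).trans e
    have := congrArg f (hc.is_comm.comm (f.symm (.a 1)) (f.symm (.xa 0)))
    simp only [map_mul, MulEquiv.apply_symm_apply] at this
    exact absurd this (by decide)
  have hT : T ≤ 𝐂[T] := fun a ha b hb => congrArg Subtype.val (e.injective (a₁ := ⟨b, hb⟩ * ⟨a, ha⟩)
    (a₂ := ⟨a, ha⟩ * ⟨b, hb⟩) (by rw [map_mul, map_mul, mul_comm]))
  rcases k with _ | _ | k
  · omega
  · refine cE ▸ card_le_of_class hn (S0112.result n hn (T.subgroupOf S) (by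
      rw [cT, Nat.card_congr e.toEquiv]; simp) (le_antisymm hc ?_)) _ he'
    rw [centralizer_subgroupOf h.le]; exact fun s hs => hT hs
  refine homocyclic hS h hT hm (fun v hv e1 => ?_) hE he
  have e2 : e ⟨v, hv⟩ * e ⟨v, hv⟩ = 1 := by rw [← map_mul, ← map_one e]; exact congrArg e (Subtype.ext e1)
  obtain ⟨a, ha⟩ := zmod_sq (e ⟨v, hv⟩).1.toAdd (congrArg (fun p => p.1.toAdd) e2)
  obtain ⟨b, hb⟩ := zmod_sq (e ⟨v, hv⟩).2.toAdd (congrArg (fun p => p.2.toAdd) e2)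
  refine ⟨_, (e.symm (.ofAdd a, .ofAdd b)).2, congrArg Subtype.val (e.injective (a₁ := ⟨v, hv⟩)
    (a₂ := e.symm (.ofAdd a, .ofAdd b) * e.symm (.ofAdd a, .ofAdd b)) ?_)⟩
  rw [map_mul, MulEquiv.apply_symm_apply]
  exact Prod.ext (Multiplicative.toAdd.injective ha) (Multiplicative.toAdd.injective hb)

theorem card_le_of_focal {S E : Subgroup G} (hS : IsSyl 2 S ⊤) (hf : S ≤ S.focalSubgroup) {x y : S}
    (hb : Bi x y) (hE : E ≤ S) (he : ∀ g ∈ E, g * g = 1) : Nat.card E ≤ 4 := by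
  by_contra hc
  have cE : Nat.card (E.subgroupOf S) = Nat.card E := Nat.card_congr (subgroupOfEquivOfLe hE).toEquiv
  have nm : ∀ T : Subgroup G, (∃ n, cj(n, E) ≤ T) → ¬ IsMetacyclic T := fun T ⟨n, hn⟩ hm =>
    hc (card_cj n E ▸ card_le_of_meta (isMetacyclic_of_le hn hm) fun ⟨_, g, hg, rfl⟩ => Subtype.ext (by
      show n * g * n⁻¹ * (n * g * n⁻¹) = 1
      rw [conj_mul, he g hg]; simp))
  have mt : ∀ T ≤ S, IsMetacyclic (T.subgroupOf S) → IsMetacyclic T := fun T hT hm =>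
    isMetacyclic_of_surjective (subgroupOfEquivOfLe hT).toMonoidHom (subgroupOfEquivOfLe hT).surjective hm
  obtain ⟨M, hM, hx, -, hmax⟩ := hb.exists_max hS.pgrp (E := E.subgroupOf S)
    (fun e => hc ((card_le_of_le hE).trans (hb.card_le (Subtype.ext (he _ (subgroupOf_eq_top.1 e x.2)))
      (Subtype.ext (he _ (subgroupOf_eq_top.1 e y.2))))))
    fun e => nm E ⟨1, (cj_one E).le⟩ (mt E hE e)
  have key : ∀ T ≤ S, ¬ S ≤ T → IsMetacyclic T ∨ T ≤ M.map S.subtype := fun T hT h1 =>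
    (hmax _ fun e => h1 (subgroupOf_eq_top.1 e)).imp (mt T hT) fun e =>
      map_subgroupOf_of_le hT ▸ map_mono e
  have hx' : (x : G) ∉ M.map S.subtype := fun e => hx (mem_map_subtype.1 e)
  have hF : M.map S.subtype ≤ S := map_subtype_le M
  have hEF := (key E hE fun e => hc ((card_le_of_le hE).trans
    (hb.card_le (Subtype.ext (he _ (e x.2))) (Subtype.ext (he _ (e y.2)))))).resolve_left
      (nm E ⟨1, (cj_one E).le⟩)
  have hN : 𝐍[S] ≤ 𝐍[M.map S.subtype] := fun n hn => mem_normalizer_of_cj_le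
    ((key _ (cj_le_of_mem_normalizer hF hn) fun e => hx' (by
      rw [le_cj_iff, cj_of_mem_normalizer (inv_mem hn)] at e; exact e x.2)).resolve_left
      (nm _ ⟨n, cj_mono n hEF⟩))
  refine hx' (le_of_focal hS hf (fun n hn a ha => ?_) (fun T X hT g hg a ha => ?_) x.2)
  · have h1 := conj_mem_of_mem_normalizer hn ha
    refine mem_map_subtype.2 ((mul_mem_iff_of_index_two hM (a := ⟨_, h1⟩) (b := ⟨a, ha⟩⁻¹)).2 ?_)
    rw [inv_mem_iff, ← mem_map_subtype, ← mem_map_subtype]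
    exact ⟨fun e => by simpa [mul_assoc] using inv_conj_mem_of_mem_normalizer (hN hn) e,
      conj_mem_of_mem_normalizer (hN hn)⟩
  · rcases key T hT.le (fun e => hT.lt.not_ge (inf_le_left.trans e)) with e | e
    · by_cases hO : 𝐎[2, X] ≤ 𝐂[T]
      · rw [← hO hg a ha]; simp
      · exact (hc (good_meta hS hT e hO hE he)).elim
    · exact e (mul_mem (conj_mem_of_mem_normalizer (hT.least.le' (pRes_le 2 X hg)) ha) (inv_mem ha))

theorem rank_le (S : Sylow 2 G) (h2 : ∀ H : Subgroup G, H.index ≠ 2) {x y : (S : Subgroup G)}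
    (hb : Bi x y) : PRankLE 2 2 G := fun A _ hA => by
  obtain ⟨g, -, hg⟩ := (isSyl_top S).exists_cj_le (R := A)
    (isPGroup_iff.2 fun a ha => ⟨1, by simpa using hA a ha⟩) le_top
  exact card_cj g A ▸ card_le_of_focal (isSyl_top S) (Inv.focal_eq_of_pResidual_eq_top S
    (Inv.pResidual_eq_top_of_index_ne_two h2)) hb hg (by
      rintro _ ⟨a, ha, rfl⟩
      simpa [pow_two] using congrArg (MulAut.conj g) (hA a ha))

end Cfsg.Agent.Bicyc
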