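import Mathlib
import Cfsg.Agent.Bicyc.Ess
import Cfsg.Agent.Bicyc.Rank

/-!
A `2`-group with a metacyclic subgroup of index at most two and an inverted automorphism of order
three.
-/

set_option autoImplicit false

namespace Cfsg.Agent.Bicyc

open Cfsg Cfsg.Agent.Fus Subgroup Cfsg.Agent.FT.R2 Cfsg.Agent.Fus.AC
open scoped commutatorElement

variable {X : Type*} [Group X] [Finite X]

theorem card_ne_eight (hsq : ∀ x : X, x * x = 1) {b : MulAut X} (b3 : b ^ 3 = 1)
    (h : ∀ v, v * b v * b (b v) = 1) : Nat.card X ≠ 8 := fun e => by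
  have : Fact (Nat.Prime 3) := ⟨Nat.prime_three⟩
  have hB : IsPGroup 3 (zpowers b) := isPGroup_zpowers (k := 1) (by simpa using b3)
  have h1 := hB.card_modEq_card_fixedPoints X
  have h2 : MulAction.fixedPoints (zpowers b) X = {1} := by
    ext v
    refine ⟨fun hv => ?_, by rintro rfl g; exact map_one (g : MulAut X)⟩
    have h3 : b v = v := hv ⟨b, mem_zpowers b⟩
    have := h v
    rwa [h3, h3, hsq, one_mul] at this
  rw [e, h2] at h1
  simp [Nat.ModEq] at h1

theorem index_le_four (hX : IsPGroup 2 X) (h : HM X) {β : MulAut X} (b3 : β ^ 3 = 1)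
    (hc : ∀ K : Subgroup X, (∀ x, x⁻¹ * β x ∈ K) → K = ⊤) : (frattini X).index ≤ 2 ^ 2 := by
  obtain ⟨ρ, hρ⟩ := exists_quotHom (inv_of_char ⊤ (frattini X))
  have hsq := quot_sq hX
  have cm := comm_of_sq hsq
  set b := ρ ⟨β, trivial⟩ with hb
  have b3' : b ^ 3 = 1 := by rw [hb, ← map_pow, show (⟨β, trivial⟩ : (⊤ : Subgroup _)) ^ 3 = 1 from
    Subtype.ext b3, map_one]
  have e5 : ∀ u, b (b (b u)) = u := fun u => by
    have : (b ^ 3) u = u := by rw [b3']; rfl
    rwa [pow_succ, pow_two] at this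
  let N : X ⧸ frattini X →* X ⧸ frattini X := MonoidHom.mk' (fun v => v * b v * b (b v)) fun u v => by
    letI : CommGroup (X ⧸ frattini X) := { (inferInstance : Group _) with mul_comm := cm }
    simp only [map_mul]; ac_rfl
  have h1 := hc (N.ker.comap (QuotientGroup.mk' _)) fun x => by
    rw [mem_comap, map_mul, map_inv, MonoidHom.mem_ker, map_mul, map_inv, inv_mul_eq_one]
    have : QuotientGroup.mk' (frattini X) (β x) = b x := (hρ ⟨β, trivial⟩ x).symm
    rw [this]
    show (x : X ⧸ frattini X) * b x * b (b x) = b x * b (b x) * b (b (b x))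
    rw [e5, mul_assoc, cm]
  have h2 := card_ne_eight hsq b3' fun v => by
    obtain ⟨v, rfl⟩ := QuotientGroup.mk_surjective v
    exact (h1.ge (mem_top v) :)
  have h3 := h.index_le hX
  obtain ⟨k, hk⟩ := hX.index (frattini X)
  change (frattini X).index ≠ 8 at h2
  rw [hk] at h2 h3 ⊢
  have : k ≤ 3 := (Nat.pow_le_pow_iff_right one_lt_two).1 h3
  exact Nat.pow_le_pow_right two_pos (by_contra fun h => h2 (by rw [show k = 3 by omega]; rfl))

theorem le_of_card_le_four {U K : Subgroup X} (h : Nat.card U ≤ 4) (hK : K ≤ U) {a b : X}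
    (ha : a ∈ K) (hb : b ∈ K) (a1 : a ≠ 1) (b1 : b ≠ 1) (ab : a ≠ b) : U ≤ K := by
  have := Fintype.ofFinite K
  have h1 : 2 < Nat.card K := by
    rw [Nat.card_eq_fintype_card, Fintype.two_lt_card_iff]
    exact ⟨1, ⟨a, ha⟩, ⟨b, hb⟩, fun e => a1 (congrArg Subtype.val e).symm,
      fun e => b1 (congrArg Subtype.val e).symm, fun e => ab (congrArg Subtype.val e)⟩
  obtain ⟨c, hc⟩ := card_dvd_of_le hK
  refine (eq_of_le_of_card_ge hK ?_).ge
  rcases c with _ | _ | c
  · exact absurd hc Nat.card_pos.ne'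
  · omega
  · nlinarith

/-- Elements of order at most two of an abelian subgroup. -/
def om (R : Subgroup X) (h : ∀ a ∈ R, ∀ b ∈ R, a * b = b * a) : Subgroup X where
  carrier := {v | v ∈ R ∧ v * v = 1}
  one_mem' := ⟨one_mem _, by simp⟩
  mul_mem' := fun {a b} ha hb => ⟨mul_mem ha.1 hb.1, by
    rw [mul_assoc, ← mul_assoc b, h b hb.1 a ha.1, mul_assoc, ← mul_assoc, ha.2, hb.2, mul_one]⟩
  inv_mem' := fun {a} ha => ⟨inv_mem ha.1, by rw [← mul_inv_rev, ha.2, inv_one]⟩

theorem card_om_le {R : Subgroup X} (h : ∀ a ∈ R, ∀ b ∈ R, a * b = b * a) (hm : IsMetacyclic R) :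
    Nat.card (om R h) ≤ 4 :=
  card_le_of_meta (isMetacyclic_of_le (fun _ hv => hv.1) hm) fun v => Subtype.ext v.2.2

/-- The homocyclic configuration. -/
structure HC (β σ : MulAut X) (R : Subgroup X) : Prop where
  normal : R.Normal
  comm : ∀ a ∈ R, ∀ b ∈ R, a * b = b * a
  bR : ∀ r ∈ R, β r ∈ R
  sR : ∀ r ∈ R, σ r ∈ R
  fix : ∀ r ∈ R, β r = r → r = 1
  dec : ∀ g, ∃ c, β c = c ∧ ∃ r ∈ R, g = c * r
  sq : ∀ r ∈ R, r * r = 1 → ∃ t ∈ R, r = t * t
  cen : ∀ r ∈ R, r * r = 1 → ∀ g, g * r = r * g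
  ex : ∃ r ∈ R, r * r = 1 ∧ σ r ≠ r
  ex' : ∃ r ∈ R, r⁻¹ * σ r ∉ frattini X

theorem split (hX : IsPGroup 2 X) (h : HM X) {β σ : MulAut X} (b1 : β ≠ 1) (b3 : β ^ 3 = 1)
    (bi : σ * β * σ⁻¹ = β⁻¹) :
    (∃ u e, QR (fix₁ β) u (σ u) e ∧ u ∉ fix₁ β ∧ σ u ∉ fix₁ β ∧ u * σ u ∉ fix₁ β ∧
      qx (fix₁ β) u (σ u) = ⊤) ∨ ∃ R, HC β σ R := by
  have : Fact (Nat.Prime 3) := ⟨Nat.prime_three⟩
  have o3 : ∀ {Y : Type _} [Group Y] {b : MulAut Y}, b ^ 3 = 1 → (orderOf b).Coprime 2 := fun h =>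
    Nat.Coprime.coprime_dvd_left (orderOf_dvd_of_pow_eq_one h) (by norm_num)
  have hA : (Nat.card (zpowers β)).Coprime 2 := Nat.card_zpowers β ▸ o3 b3
  have e3 : ∀ u, β (β (β u)) = u := fun u => by
    have : (β ^ 3) u = u := by rw [b3]; rfl
    rwa [pow_succ, pow_two] at this
  have sb : ∀ u, σ (β u) = β (β (σ u)) := fun u => by
    have : (σ * β * σ⁻¹) (σ u) = β⁻¹ (σ u) := by rw [bi]
    simp only [MulAut.mul_apply, MulAut.inv_apply_self] at this
    rw [this, ← e3 (β⁻¹ _), MulAut.apply_inv_self]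
  set R := comm (zpowers β) (⊤ : Subgroup X) with hR
  have hn : R.Normal := normal_comm_top _
  have dec : ∀ g, ∃ c, β c = c ∧ ∃ r ∈ R, g = c * r := fun g => by
    obtain ⟨c, hc, r, hr, e⟩ := exists_fix_mul_comm hA (hX.to_subgroup ⊤) (inv_top _) (mem_top g)
    exact ⟨c, hc.2 β (mem_zpowers β), r, hr, e⟩
  have iR := inv_comm (zpowers β) (⊤ : Subgroup X)
  have bR : ∀ r ∈ R, β r ∈ R := iR β (mem_zpowers β)
  have sR : ∀ r ∈ R, σ r ∈ R := fun r hr => (comm_le_iff (V := R.comap σ.toMonoidHom)).2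
    (fun a ha x _ => by
      obtain ⟨k, rfl⟩ := ha
      have := mem_comm (U := ⊤) (show σ * β ^ k * σ⁻¹ ∈ zpowers β by
        rw [← conj_zpow, bi]; exact zpow_mem (inv_mem (mem_zpowers β)) k) (mem_top (σ x))
      simpa using this) hr
  obtain ⟨ρ, hρ⟩ := exists_subHom iR
  set b := ρ ⟨β, mem_zpowers β⟩ with hb
  have hb' : ∀ x : R, (b x : X) = β x := hρ _
  have c1 : b ≠ 1 := fun e => b1 (MulEquiv.ext fun g => by
    obtain ⟨c, hc, r, hr, rfl⟩ := dec g
    rw [map_mul, hc, ← hb' ⟨r, hr⟩, e]; rfl)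
  have c3 : b ^ 3 = 1 := by
    rw [hb, ← map_pow, show (⟨β, mem_zpowers β⟩ : zpowers β) ^ 3 = 1 from Subtype.ext b3, map_one]
  have hRp := hX.to_subgroup R
  have hc : ∀ K : Subgroup R, (∀ x, x⁻¹ * b x ∈ K) → K = ⊤ := fun K hK => by
    have h1 : ∀ x ∈ K, b x ∈ K := fun x hx => by simpa using mul_mem hx (hK x)
    have h2 := (comm_zpowers_le_iff (α := β) (U := R) (V := K.map R.subtype) (by
      rintro _ ⟨x, hx, rfl⟩; exact ⟨_, h1 x hx, hb' x⟩)).2 fun x hx =>
        ⟨_, hK ⟨x, hx⟩, by simp [hb']⟩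
    rw [comm_comm hA (hX.to_subgroup ⊤) (inv_top _)] at h2
    exact eq_top_iff.2 fun x _ => by
      obtain ⟨y, hy, e⟩ := h2 x.2
      exact Subtype.ext e ▸ hy
  have h4 : (frattini R).index ≤ 2 ^ 2 := index_le_four hRp (h.sub R) c3 hc
  have hm := (h.sub R).meta_of_aut hRp h4 (o3 c3) c1
  have ex' : ∃ r ∈ R, r⁻¹ * σ r ∉ frattini X := by
    by_contra hn'
    push Not at hn'
    have k : ∀ r ∈ R, r⁻¹ * β r ∈ frattini X := fun r hr => by
      have h1 := inv_of_char ⊤ _ β trivial _ (hn' _ (bR r hr))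
      have h2 := hn' r hr
      rw [map_mul, map_inv, sb, e3] at h1
      have h3 := inv_of_char ⊤ _ β trivial _ (mul_mem h1 (inv_mem h2))
      rw [mul_inv_rev, inv_inv, mul_assoc, mul_inv_cancel_left, map_mul, map_inv, e3] at h3
      exact h3
    refine b1 (eq_one_of_frattini hX (o3 b3) fun g => ?_)
    obtain ⟨c, hc, r, hr, rfl⟩ := dec g
    simpa [hc, mul_assoc] using k r hr
  have key : ∀ e ∈ R, e * e = 1 → (∀ r ∈ R, r ∈ zpowers e ∨ r * r = e) →
      (∀ r ∈ R, r * r = 1 → r ≠ 1 → r = e ∨ e = 1) →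
      ∃ u e, QR (fix₁ β) u (σ u) e ∧ u ∉ fix₁ β ∧ σ u ∉ fix₁ β ∧ u * σ u ∉ fix₁ β ∧
        qx (fix₁ β) u (σ u) = ⊤ := fun e he ee h1 h2 => by
    have ec : ∀ {c}, c ∈ zpowers e → c = 1 ∨ c = e := by
      rintro _ ⟨k, rfl⟩; exact (zpow_cases ee k).imp And.right And.right
    have fe : ∀ γ : MulAut X, γ e ∈ R → γ e = e := fun γ hγ => by
      by_cases e1 : e = 1
      · rw [e1, map_one]
      · exact (h2 _ hγ (by rw [← map_mul, ee, map_one]) (by simpa using e1)).resolve_right e1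
    have ce : ∀ g, g * e = e * g := fun g =>
      mul_inv_eq_iff_eq_mul.1 (fe (MulAut.conj g) (hn.conj_mem e he g))
    have be := fe β (bR e he)
    have inv2 : ∀ K : Subgroup X, (∀ x ∈ K, β x ∈ K) → (∀ x ∈ K, x ∈ R → x ∈ zpowers e) ∨ R ≤ K :=
      fun K hK => (Grp.MetaAut.inv_le_or hRp h4 (o3 c3) c1 (U := K.subgroupOf R) fun x hx => by
        rw [mem_subgroupOf, hb']; exact hK x hx).imp (fun h x hx hx' =>
          frattini_le_of_sq (N := (zpowers e).subgroupOf R) (fun g => by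
            rcases h1 g g.2 with h | h
            exacts [mul_mem h h, (show (g : X) * g ∈ zpowers e from h ▸ mem_zpowers e)])
            (h (show (⟨x, hx'⟩ : R) ∈ K.subgroupOf R from hx))) subgroupOf_eq_top.1
    have hC : ∀ x ∈ fix₁ β, x ∈ R → x ∈ zpowers e :=
      (inv2 (fix₁ β) fun x hx => by rwa [mem_fix₁.1 hx]).resolve_right fun h =>
        c1 (MulEquiv.ext fun x => Subtype.ext ((hb' x).trans (h x.2)))
    have eC : zpowers e ≤ fix₁ β := zpowers_le.2 be
    obtain ⟨⟨i, hi⟩, -, -, g1, g2⟩ := Grp.MetaAut.exists_gens hRp hm (o3 c3) c1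
    have g1' : R ≤ zpowers i ⊔ zpowers (β i) := fun x hx => by
      have := mem_map_of_mem R.subtype (g1.ge (mem_top ⟨x, hx⟩))
      simpa [Subgroup.map_sup, hb'] using this
    have g2' : β i ∉ zpowers i := fun ⟨k, hk⟩ => g2 (mem_sup_left ⟨k, Subtype.ext (by simpa [hb'] using hk)⟩)
    have n1 : i ∉ zpowers e := fun h => g2' (by rw [mem_fix₁.1 (eC h)]; exact mem_zpowers i)
    have ii := (h1 i hi).resolve_left n1
    have ei : zpowers e ≤ zpowers i := zpowers_le.2 (ii ▸ mul_mem (mem_zpowers i) (mem_zpowers i))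
    have n2 : β i ∉ zpowers e := fun h => g2' (ei h)
    have n3 : i * β i ∉ zpowers e := fun h => g2' ((mul_mem_cancel_left (mem_zpowers i)).1 (ei h))
    have hi' := bR i hi
    have en : (zpowers e).Normal := ⟨by
      rintro _ ⟨k, rfl⟩ g
      simp only [← conj_zpow, ce g, mul_inv_cancel_right]
      exact zpow_mem_zpowers e k⟩
    have := hX.isNilpotent
    have z2 : ∀ r ∈ R, ∀ g, ⁅r, g⁆ ∈ zpowers e := by
      obtain ⟨u, u1, u2, u3⟩ := Grp.PChain.exists_central_mod R (zpowers e) fun h => n1 (h hi)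
      let π := QuotientGroup.mk' (zpowers e)
      have k : ∀ r, r ∈ (center _).comap π ↔ ∀ g, ⁅r, g⁆ ∈ zpowers e := fun r => by
        rw [mem_comap, Subgroup.mem_center_iff, (QuotientGroup.mk'_surjective _).forall]
        refine forall_congr' fun g => ?_
        rw [eq_comm, ← commutatorElement_eq_one_iff_mul_comm, ← map_commutatorElement]
        exact QuotientGroup.eq_one_iff _
      intro r hr
      refine (k r).1 ((inv2 _ fun x hx => (k _).2 fun g => ?_).resolve_left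
        (fun h => u2 (h u ((k u).2 u3) u1)) hr)
      have := (k x).1 hx (β⁻¹ g)
      rw [← mem_fix₁.1 (eC this), map_commutatorElement, MulAut.apply_inv_self] at this
      exact this
    have cR : ∀ c ∈ fix₁ β, ∀ r ∈ R, r * c = c * r := fun c hc r hr => by
      refine mem_centralizer_singleton_iff.1 ((inv2 (centralizer {c}) fun x hx => ?_).resolve_left
        (fun h => ?_) hr)
      · rw [mem_centralizer_singleton_iff] at hx ⊢
        rw [← mem_fix₁.1 hc, ← map_mul, ← map_mul, hx]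
      have k : ∀ r ∈ R, r ∉ zpowers e → r * c = e * (c * r) := fun r hr hr' => by
        rcases ec (z2 r hr c) with h' | h'
        · exact (hr' (h r (mem_centralizer_singleton_iff.2
            (commutatorElement_eq_one_iff_mul_comm.1 h')) hr)).elim
        · rw [← h', commutatorElement_def]; group
      refine n3 (h _ (mem_centralizer_singleton_iff.2 ?_) (mul_mem hi hi'))
      rw [mul_assoc, k _ hi' n2, ← mul_assoc, ce, mul_assoc, ← mul_assoc i, k i hi n1, ← mul_assoc,
        ← mul_assoc, ee]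
      group
    have sqC : ∀ g : X, g * g ∈ fix₁ β := fun g => by
      obtain ⟨c, hc, r, hr, rfl⟩ := dec g
      rw [mul_assoc, ← mul_assoc r, cR c hc r hr, mul_assoc, ← mul_assoc]
      refine mul_mem (mul_mem hc hc) (eC ?_)
      rcases h1 r hr with h | h
      exacts [mul_mem h h, h ▸ mem_zpowers e]
    have ΦC := frattini_le_of_sq sqC
    have Cn := normal_of_commutator_le ((Grp.PFrattini.commutator_le_frattini hX).trans ΦC)
    have cc : ∀ a ∈ fix₁ β, ∀ b ∈ fix₁ β, a * b = b * a := by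
      have l1 : fix₁ β < fix₁ β ⊔ zpowers i := lt_of_le_of_ne le_sup_left fun h =>
        n1 (hC i (h ▸ mem_sup_right (mem_zpowers i)) hi)
      have l2 : fix₁ β ⊔ zpowers i < ⊤ := lt_top_iff_ne_top.2 fun h => by
        obtain ⟨c, hc, k, hk⟩ := Grp.PChain.mem_sup_zpowers.1 (h ▸ mem_top (β i))
        have : c ∈ R := by simpa [hk] using mul_mem hi' (inv_mem (zpow_mem hi k))
        exact g2' (hk ▸ mul_mem (ei (hC c hc this)) (zpow_mem_zpowers i k))
      have l3 := index_strictAnti l1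
      have l4 := index_strictAnti l2
      have top : fix₁ β ⊔ (R ⊔ frattini X) = ⊤ := eq_top_iff.2 fun g _ => by
        obtain ⟨c, hc, r, hr, rfl⟩ := dec g
        exact mul_mem (mem_sup_left hc) (mem_sup_right (mem_sup_left hr))
      have l5 := index_antitone (le_inf ΦC (le_sup_right : frattini X ≤ R ⊔ frattini X))
      rw [← relIndex_mul_index inf_le_right, inf_relIndex_right, ← relIndex_sup_left, top,
        relIndex_top_right] at l5
      have l6 := h.index_le hX
      rw [index_top] at l4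
      obtain ⟨w, hw⟩ := exists_sup_zpowers_of_index_le hX (N := R ⊔ frattini X) (by nlinarith)
      obtain ⟨c, hc, r, hr, rfl⟩ := dec w
      have l7 : R ⊔ zpowers c = ⊤ := frattini_nongenerating (eq_top_iff.2 (hw.ge.trans (sup_le
        (sup_le (le_sup_left.trans le_sup_left) le_sup_right) (zpowers_le.2 (mem_sup_left
          (mul_mem (mem_sup_right (mem_zpowers c)) (mem_sup_left hr)))))))
      intro a ha b hb
      obtain ⟨r, hr, k, rfl⟩ := Grp.PChain.mem_sup_zpowers.1 (l7 ▸ mem_top a)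
      obtain ⟨r', hr', k', rfl⟩ := Grp.PChain.mem_sup_zpowers.1 (l7 ▸ mem_top b)
      refine Commute.mul_left (cR _ hb r hr) (Commute.mul_right (cR _ (zpow_mem hc k) r' hr').symm
        (zpow_mul_comm c k k'))
    have fin : ∀ u ∈ R, u ∉ zpowers e → u * σ u ∉ zpowers e → ∃ u e, QR (fix₁ β) u (σ u) e ∧
        u ∉ fix₁ β ∧ σ u ∉ fix₁ β ∧ u * σ u ∉ fix₁ β ∧ qx (fix₁ β) u (σ u) = ⊤ := fun u hu u1 u3 => by
      have su := sR u hu
      have se := fe σ (sR e he)
      have u2 : σ u ∉ zpowers e := fun h => u1 (by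
        rcases ec h with h | h
        · rw [(MulEquiv.map_eq_one_iff σ).1 h]; exact one_mem _
        · rw [σ.injective (h.trans se.symm)]; exact mem_zpowers e)
      have q : QR (fix₁ β) u (σ u) e := ⟨be, ee, (h1 u hu).resolve_left u1,
        (h1 _ su).resolve_left u2, (h1 _ (mul_mem hu su)).resolve_left u3, cc,
        fun c hc => cR c hc u hu, fun c hc => cR c hc _ su⟩
      refine ⟨u, e, q, fun h => u1 (hC _ h hu), fun h => u2 (hC _ h su),
        fun h => u3 (hC _ h (mul_mem hu su)), eq_of_le_of_index_le le_top ?_⟩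
      have l0 := index_antitone (frattini_le_of_sq (N := (fix₁ β).subgroupOf R) fun g => sqC g)
      have top : R ⊔ fix₁ β = ⊤ := eq_top_iff.2 fun g _ => by
        obtain ⟨c, hc, r, hr, rfl⟩ := dec g
        exact mul_mem (mem_sup_right hc) (mem_sup_left hr)
      change (fix₁ β).relIndex R ≤ _ at l0
      rw [← relIndex_sup_right, top, relIndex_top_right] at l0
      have l1 : fix₁ β < fix₁ β ⊔ zpowers u := lt_of_le_of_ne le_sup_left fun h =>
        u1 (hC u (h ▸ mem_sup_right (mem_zpowers u)) hu)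
      have l2 : fix₁ β ⊔ zpowers u < qx (fix₁ β) u (σ u) := lt_of_le_of_ne
        (sup_le (le_qx _ _ _) (zpowers_le.2 (i_mem_qx _ _ _))) fun h => by
          obtain ⟨c, hc, k, hk⟩ := Grp.PChain.mem_sup_zpowers.1 (h ▸ j_mem_qx (fix₁ β) u (σ u))
          have uu : u * u ∈ fix₁ β := sqC u
          rcases Int.even_or_odd' k with ⟨l, rfl | rfl⟩
          · refine u2 (hC _ ?_ su)
            rw [hk, zpow_mul, zpow_two]; exact mul_mem hc (zpow_mem uu l)
          · refine u3 (hC _ ?_ (mul_mem hu su))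
            rw [hk, ← mul_assoc, cR c hc u hu, mul_assoc, ← zpow_one_add,
              show 1 + (2 * l + 1) = 2 * (l + 1) by ring, zpow_mul, zpow_two]
            exact mul_mem hc (zpow_mem uu _)
      have l3 := index_strictAnti l1
      have l4 := index_strictAnti l2
      obtain ⟨k, hk⟩ := hX.index (fix₁ β ⊔ zpowers u)
      have : k < 2 := (Nat.pow_lt_pow_iff_right one_lt_two).1 (hk ▸ l3.trans_le (l0.trans h4))
      have := Nat.pow_le_pow_right two_pos (Nat.le_of_lt_succ this)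
      rw [index_top]; omega
    by_cases h : i * σ i ∈ zpowers e
    · refine fin _ hi' n2 fun h' => g2' ?_
      have k1 : β (β (i * σ i)) = i * σ i := by rw [mem_fix₁.1 (eC h), mem_fix₁.1 (eC h)]
      have k2 : β i * σ (β i) = β (i * (β i)⁻¹) * (i * σ i) := by
        rw [← k1, sb]; simp only [map_mul, map_inv]; group
      rw [k2, mul_mem_cancel_right h] at h'
      have k3 := β.injective (mem_fix₁.1 (eC h'))
      rw [k3] at h'
      exact inv_mem_iff.1 ((mul_mem_cancel_left (mem_zpowers i)).1 (ei h'))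
    · exact fin _ hi n1 h
  rcases Grp.MetaAut.main hRp hm (o3 c3) c1 with ⟨⟨φ⟩⟩ | ⟨k, hk, ⟨φ⟩⟩
  · have d : ∀ r : QuaternionGroup 2, (r = 1 ∨ r = .a 2 ∨ r * r = .a 2) ∧
        (r * r = 1 → r ≠ 1 → r = .a 2) := by decide
    refine .inl (key _ (φ.symm (.a 2)).2 ?_ (fun r hr => ?_) fun r hr h1 h2 => .inl ?_)
    · rw [← coe_mul, ← map_mul, show (.a 2 * .a 2 : QuaternionGroup 2) = 1 by decide, map_one]; rfl
    · rcases (d (φ ⟨r, hr⟩)).1 with h | h | h
      · rw [show r = 1 from congrArg Subtype.val ((MulEquiv.map_eq_one_iff φ).1 h)]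
        exact .inl (one_mem _)
      · rw [← h, MulEquiv.symm_apply_apply]; exact .inl (mem_zpowers r)
      · rw [← h, ← map_mul, MulEquiv.symm_apply_apply]; exact .inr rfl
    · rw [← (d (φ ⟨r, hr⟩)).2 (by rw [← map_mul, ← map_one φ]; exact congrArg φ (Subtype.ext h1))
        fun h => h2 (congrArg Subtype.val ((MulEquiv.map_eq_one_iff φ).1 h)),
        MulEquiv.symm_apply_apply]
  have cm : ∀ a b : R, a * b = b * a := fun a b => φ.injective (by rw [map_mul, map_mul, mul_comm])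
  have cm' : ∀ a ∈ R, ∀ b ∈ R, a * b = b * a := fun a ha b hb =>
    congrArg Subtype.val (cm ⟨a, ha⟩ ⟨b, hb⟩)
  rcases k with _ | _ | k
  · omega
  · refine .inl (key 1 (one_mem _) (mul_one 1) (fun r hr => .inr ?_) fun _ _ _ _ => .inr rfl)
    have d : ∀ r : Multiplicative (ZMod 2) × Multiplicative (ZMod 2), r * r = 1 := by decide
    exact congrArg Subtype.val (φ.injective (a₁ := ⟨r, hr⟩ * ⟨r, hr⟩) (a₂ := 1)
      (by rw [map_mul, map_one]; exact d _))
  have fx : ∀ r ∈ R, β r = r → r = 1 := fun r hr e => by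
    let N : R →* R := MonoidHom.mk' (fun v => v * b v * b (b v)) fun u v => by
      letI : CommGroup R := { (inferInstance : Group _) with mul_comm := cm }
      simp only [map_mul]; ac_rfl
    have h1 := hc N.ker fun x => by
      rw [MonoidHom.mem_ker, map_mul, map_inv, inv_mul_eq_one]
      show x * b x * b (b x) = b x * b (b x) * b (b (b x))
      rw [show b (b (b x)) = x from Subtype.ext (by rw [hb', hb', hb', e3]), mul_assoc, cm]
    have h2 : r * β r * β (β r) = 1 := by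
      simpa [N, hb'] using congrArg Subtype.val (show N ⟨r, hr⟩ = 1 from h1.ge (mem_top _))
    obtain ⟨n, hn⟩ := hX r
    exact eq_one_of_two_three (j := 1) hn (by rw [← h2, e, e, pow_one, pow_succ, pow_two])
  obtain ⟨z, z1, z2, z3, z4⟩ := Grp.PChain.exists_central_mod_pow hX R ⊥ fun h =>
    c1 (MulEquiv.ext fun x => Subtype.ext ((mem_bot.1 (h (b x).2)).trans (mem_bot.1 (h x.2)).symm))
  rw [mem_bot, pow_two] at z3
  have z5 : β z ≠ z := fun e => z2 (fx z z1 e)
  have z6 : β z * β z = 1 := by rw [← map_mul, z3, map_one]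
  refine .inr ⟨R, hn, cm', bR, sR, fx, dec, fun v hv e1 => ?_, fun r hr r2 g => ?_, ?_, ex'⟩
  · have e2 : φ ⟨v, hv⟩ * φ ⟨v, hv⟩ = 1 := by
      rw [← map_mul, ← map_one φ]; exact congrArg φ (Subtype.ext e1)
    obtain ⟨a, ha⟩ := zmod_sq (φ ⟨v, hv⟩).1.toAdd (congrArg (fun p => p.1.toAdd) e2)
    obtain ⟨b, hb⟩ := zmod_sq (φ ⟨v, hv⟩).2.toAdd (congrArg (fun p => p.2.toAdd) e2)
    refine ⟨_, (φ.symm (.ofAdd a, .ofAdd b)).2, congrArg Subtype.val (φ.injective (a₁ := ⟨v, hv⟩)
      (a₂ := φ.symm (.ofAdd a, .ofAdd b) * φ.symm (.ofAdd a, .ofAdd b)) ?_)⟩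
    rw [map_mul, MulEquiv.apply_symm_apply]
    exact Prod.ext (Multiplicative.toAdd.injective ha) (Multiplicative.toAdd.injective hb)
  · have zc : ∀ g, g * z = z * g := fun g =>
      (commutatorElement_eq_one_iff_mul_comm.1 (mem_bot.1 (z4 g))).symm
    refine (le_of_card_le_four (U := om R cm') (K := om R cm' ⊓ centralizer {g})
      (card_om_le cm' hm) inf_le_left ⟨⟨z1, z3⟩, mem_centralizer_singleton_iff.2 (zc g).symm⟩
      ⟨⟨bR z z1, z6⟩, mem_centralizer_singleton_iff.2 ?_⟩ z2 (by simpa using z2) z5.symm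
      ⟨hr, r2⟩).2 g rfl
    rw [← β.apply_symm_apply g, ← map_mul, ← map_mul, zc]
  · by_cases e : σ z = z
    · exact ⟨β z, bR z z1, z6, fun e' => z5 (β.injective (by rwa [sb, e] at e'))⟩
    · exact ⟨z, z1, z3, e⟩

end Cfsg.Agent.Bicyc
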