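import Mathlib
import Cfsg.Agent.Bicyc.Split
import Cfsg.Agent.Bicyc.Cyc
import Cfsg.Agent.SylAb.Dih

/-!
The dihedral configuration at an essential subgroup of a two-generator `2`-group.
-/

set_option autoImplicit false

namespace Cfsg.Agent.Bicyc

open Cfsg Cfsg.Agent.Fus Subgroup Cfsg.Agent.SylAb
open scoped commutatorElement

variable {G : Type*} [Group G]

theorem le_of_norm [Finite G] (hG : IsPGroup 2 G) {Q D : Subgroup G} {s : G}
    (h : ∀ g, (∀ x ∈ Q, g * x * g⁻¹ ∈ Q) → g ∈ Q ∨ s⁻¹ * g ∈ Q) (hle : Q ≤ D) (hs : s ∉ D) :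
    D ≤ Q := by
  by_contra hn
  obtain ⟨g, g1, g2⟩ := SetLike.exists_of_lt (lt_normalizerIn (hG.to_subgroup D)
    (lt_of_le_not_ge hle hn))
  exact hs (inv_mem_iff.1 ((mul_mem_cancel_right (show g ∈ D from g1.1)).1 (hle
    ((h g fun x hx => conj_mem_of_mem_normalizerIn g1 hx).resolve_left g2))))

theorem not_mem_frattini [Finite G] {Q N : Subgroup G} {s u : G} (h : ∀ g, g ∈ Q ∨ s⁻¹ * g ∈ Q)
    (hs : ∀ x ∈ Q, s * x * s⁻¹ ∈ Q) (hN : ∀ q ∈ Q, q * q ∈ N) (hle : N ≤ Q)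
    (hu : u⁻¹ * (s * u * s⁻¹) ∉ N) : u ∉ frattini G := fun hu' => by
  have cm : ∀ a ∈ Q, ∀ b ∈ Q, a⁻¹ * b⁻¹ * a * b ∈ N := fun a ha b hb => by
    have := mul_mem (mul_mem (inv_mem (hN a ha)) (hN _ (mul_mem ha (inv_mem hb)))) (hN b hb)
    convert this using 1; group
  let W : Subgroup G :=
    { carrier := {q | q ∈ Q ∧ q⁻¹ * (s * q * s⁻¹) ∈ N}
      one_mem' := ⟨one_mem _, by simp⟩
      mul_mem' := fun {a b} ha hb => ⟨mul_mem ha.1 hb.1, by
        have := mul_mem (mul_mem ha.2 (cm _ (hle ha.2) b hb.1)) hb.2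
        convert this using 1; group⟩
      inv_mem' := fun {a} ha => ⟨inv_mem ha.1, by
        have := mul_mem (inv_mem ha.2) (cm _ (hle (inv_mem ha.2)) _ (inv_mem ha.1))
        convert this using 1; group⟩ }
  have ss : s * s ∈ Q := (h (s * s)).elim id fun h => by
    rw [inv_mul_cancel_left] at h; exact mul_mem h h
  refine hu (frattini_le_of_sq (N := W) (fun g => ?_) hu').2
  rcases h g with hg | hg
  · refine ⟨mul_mem hg hg, ?_⟩
    convert mul_mem (inv_mem (hN g hg)) (hN _ (hs g hg)) using 1; group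
  · have h1 : g * g ∈ Q := by convert mul_mem (mul_mem (hs _ hg) ss) hg using 1; group
    refine ⟨h1, ?_⟩
    convert cm _ h1 _ (hs _ hg) using 1; group

theorem Bi.exists_gen [Finite G] (hG : IsPGroup 2 G) {x y w : G} (h : Bi x y) (hw : w ∉ frattini G) :
    zpowers w ⊔ zpowers x = ⊤ ∨ zpowers w ⊔ zpowers y = ⊤ := by
  obtain ⟨i, j, rfl⟩ := h w
  have hij : ¬ (Even i ∧ Even j) := by
    rintro ⟨⟨i, rfl⟩, j, rfl⟩
    rw [zpow_add, zpow_add] at hw
    exact hw (mul_mem (sq_mem_frattini hG _) (sq_mem_frattini hG _))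
  rcases not_and_or.1 hij with h1 | h1
  · refine .inr (eq_top_iff.2 (h.gen.ge.trans (sup_le (zpowers_le.2 (mem_of_odd hG
      (Int.not_even_iff_odd.1 h1) ?_)) le_sup_right)))
    simpa using mul_mem (mem_sup_left (mem_zpowers (x ^ i * y ^ j)))
      (inv_mem (mem_sup_right (zpow_mem_zpowers y j)))
  · refine .inl (eq_top_iff.2 (h.gen.ge.trans (sup_le le_sup_right (zpowers_le.2 (mem_of_odd hG
      (Int.not_even_iff_odd.1 h1) ?_)))))
    simpa using mul_mem (inv_mem (mem_sup_right (zpow_mem_zpowers x i)))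
      (mem_sup_left (mem_zpowers (x ^ i * y ^ j)))

theorem dh_of {u m : G} (uu : u * u = 1) (u1 : u ≠ 1)
    (ab : ∀ a b, a * u = u * a → b * u = u * b → a * b = b * a) (hm : ∃ g, m = g * u * g⁻¹)
    (m1 : m ≠ u) (m2 : m * u = u * m)
    (m3 : ∀ g, g * u * g⁻¹ * u = u * (g * u * g⁻¹) → g * u * g⁻¹ = u ∨ g * u * g⁻¹ = m)
    (m4 : ∀ t, t * u = u * t → t * t ≠ u * m) : DH {w | ∃ g, w = g * u * g⁻¹} := by
  have tr : ∀ g a : G, a * (g * u * g⁻¹) = g * u * g⁻¹ * a → g⁻¹ * a * g * u = u * (g⁻¹ * a * g) :=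
    fun g a h => by
      calc _ = g⁻¹ * (a * (g * u * g⁻¹)) * g := by group
        _ = _ := by rw [h]; group
  obtain ⟨k, hk⟩ := hm
  refine ⟨?_, ?_, ?_, ?_, ?_⟩
  · rintro _ ⟨g, rfl⟩ h; exact ⟨h * g, by group⟩
  · rintro _ ⟨g, rfl⟩; rw [conj_mul, uu]; simp
  · rintro _ ⟨g, rfl⟩; simpa using u1
  · rintro _ ⟨g, rfl⟩ a b ha hb
    have := ab _ _ (tr g a ha) (tr g b hb)
    calc _ = g * (g⁻¹ * a * g * (g⁻¹ * b * g)) * g⁻¹ := by group
      _ = _ := by rw [this]; group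
  · rintro _ ⟨g, rfl⟩
    refine ⟨g * m * g⁻¹, ⟨g * k, by rw [hk]; group⟩, by simpa using m1,
      by rw [conj_mul, conj_mul, m2], ?_, fun t ht e => m4 _ (tr g t ht) ?_⟩
    · rintro _ ⟨h, rfl⟩ e
      have e1 : g⁻¹ * (h * u * h⁻¹) * g = g⁻¹ * h * u * (g⁻¹ * h)⁻¹ := by group
      refine (m3 _ (e1 ▸ tr g _ e)).imp (fun e => ?_) fun e => ?_
      · conv_rhs => rw [← e]
        group
      · rw [← e]; group
    · calc _ = g⁻¹ * (t * t) * g := by group
        _ = _ := by rw [e]; group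

theorem exists_cyc [Finite G] (hG : IsPGroup 2 G) {C : Set G} (h : DH C) (hC : C.Nonempty) :
    ∃ u ∈ C, ∃ u' ∈ C, ∀ w ∈ C, w * u ∈ zpowers (u * u') := by
  obtain ⟨u, hu, u', hu', hc⟩ := DH.exists_closure _ rfl h hG hC
  obtain ⟨z, z1, z2, z3, hz⟩ := h.exists_z hG hu
  have iv : ∀ a ∈ zpowers (u * u'), u * a * u = a⁻¹ := by
    rintro _ ⟨k, rfl⟩
    have : u * (u * u') * u⁻¹ = (u * u')⁻¹ := by
      rw [mul_inv_rev, h.inv hu', ← mul_assoc, h.sq u hu, one_mul]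
    simp only
    rw [← inv_zpow, ← this, conj_zpow, h.inv hu]
  have cj : ∀ a ∈ zpowers (u * u'), u * a * u ∈ zpowers (u * u') := fun a ha =>
    iv a ha ▸ inv_mem ha
  have uu := h.sq u hu
  have uu' : ∀ a, u * (u * a) = a := fun a => by rw [← mul_assoc, uu, one_mul]
  have cs : ∀ x ∈ closure ({u, u'} : Set G), x ∈ zpowers (u * u') ∨ x * u ∈ zpowers (u * u') := by
    intro x hx
    induction hx using closure_induction with
    | mem x hx =>
      rcases hx with rfl | rfl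
      · exact .inr (uu ▸ one_mem _)
      · exact .inr (by simpa [mul_assoc, uu'] using cj _ (mem_zpowers _))
    | one => exact .inl (one_mem _)
    | mul x y _ _ hx hy =>
      rcases hx with hx | hx <;> rcases hy with hy | hy
      · exact .inl (mul_mem hx hy)
      · exact .inr (mul_assoc x y u ▸ mul_mem hx hy)
      · exact .inr (by simpa [mul_assoc, uu'] using mul_mem hx (cj _ hy))
      · exact .inl (by simpa [mul_assoc, uu', uu] using mul_mem hx (cj _ hy))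
    | inv x _ hx =>
      exact hx.imp inv_mem fun hx => by simpa [mul_assoc, uu', h.inv hu] using cj _ (inv_mem hx)
  refine ⟨u, hu, u', hu', fun w hw => (cs w (hc hw)).resolve_left fun hw' => ?_⟩
  have c1 : u * w = w * u := by
    have := iv w hw'
    rw [h.inv hw] at this
    calc _ = u * w * u * u := by rw [mul_assoc, uu, mul_one]
      _ = _ := by rw [this]
  have c2 : u' * w = w * u' := by
    have c : Commute (u * u') w := by obtain ⟨k, rfl⟩ := hw'; exact Commute.self_zpow _ k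
    simpa [uu'] using (Commute.mul_left c1 c).eq
  have ww := h.sq w hw
  have c3 : u * u' = 1 ∨ u * u' = z := by
    rcases (hz w hw).2.1 u hu c1 with e | e <;> rcases (hz w hw).2.1 u' hu' c2 with e' | e' <;>
      rw [e, e']
    · exact .inl ww
    · exact .inr (by rw [← mul_assoc, ww, one_mul])
    · exact .inr (by rw [z3, mul_assoc, ww, mul_one])
    · exact .inl (by rw [mul_assoc, ← mul_assoc z, ← z3 w, mul_assoc, z2, mul_one, ww])
  obtain ⟨k, hk⟩ := hw'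
  rcases c3 with e | e <;> rw [e] at hk
  · exact h.ne w hw (by simpa using hk.symm)
  · rcases zpow_cases z2 k with ⟨-, e⟩ | ⟨-, e⟩
    · exact h.ne w hw (hk.symm.trans e)
    · exact h.ne _ (hz w hw).1 (by rw [← hk]; simp only [e, z2])

/-- The dihedral configuration. -/
structure CA (Q N : Subgroup G) (s u e : G) : Prop where
  norm : ∀ g, (∀ x ∈ Q, g * x * g⁻¹ ∈ Q) → g ∈ Q ∨ s⁻¹ * g ∈ Q
  s_mem : ∀ x ∈ Q, s * x * s⁻¹ ∈ Q
  u_mem : u ∈ Q
  e_mem : e ∈ N
  le : N ≤ Q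
  ee : e * e = 1
  uu : u * u = e
  ij : u * (s * u * s⁻¹) * (u * (s * u * s⁻¹)) = e
  cm : ∀ a ∈ Q, ∀ b ∈ Q, a * b = b * a ∨ a * b = e * (b * a)
  sq : ∀ q ∈ Q, q * q ∈ N
  un : u ∉ N
  uun : u * (s * u * s⁻¹) ∉ N

namespace CA

variable [Finite G] (hG : IsPGroup 2 G) {Q N : Subgroup G} {s u e : G} (h : CA Q N s u e)
include hG h

theorem core (ce : ∀ g, g * e = e * g) : ∃ v, (zpowers v).Normal ∧ (∃ y ∈ zpowers v, e = y * y) ∧
    (∀ g : G, ⁅g, u⁆ ∈ zpowers v) ∧ (∀ a ∈ zpowers v, u * a * u⁻¹ = a⁻¹) ∧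
      ∀ w, w * u = u * w → w ∈ Q := by
  have en : (zpowers e).Normal := ⟨by
    rintro _ ⟨k, rfl⟩ g
    simp only [← conj_zpow, ce g, mul_inv_cancel_right]
    exact zpow_mem_zpowers e k⟩
  set π := QuotientGroup.mk' (zpowers e) with hπ
  have πs : Function.Surjective π := QuotientGroup.mk'_surjective _
  have fz : π e = 1 := (QuotientGroup.eq_one_iff e).2 (mem_zpowers e)
  have fe : ∀ a b, π a = π b → a = b ∨ a = e * b := fun a b hab => by
    obtain ⟨_, ⟨k, rfl⟩, rfl⟩ := (QuotientGroup.mk'_eq_mk' _).1 hab.symm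
    rcases zpow_cases h.ee k with ⟨-, e'⟩ | ⟨-, e'⟩ <;> simp [e', ce]
  have fN : ∀ a, ∀ b ∈ N, π a = π b → a ∈ N := fun a b hb hab => by
    rcases fe a b hab with rfl | rfl
    exacts [hb, mul_mem h.e_mem hb]
  have qc : ∀ a ∈ Q, ∀ b ∈ Q, π a * π b = π b * π a := fun a ha b hb => by
    rw [← map_mul, ← map_mul]
    rcases h.cm a ha b hb with e' | e' <;> rw [e']
    rw [map_mul, fz, one_mul]
  have m1 : π (s * u * s⁻¹) ≠ π u := fun e' =>
    h.uun (fN _ _ (h.sq u h.u_mem) (by rw [map_mul, e', map_mul]))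
  have cQ : ∀ g, π g * π u = π u * π g → g ∈ Q := fun g hg =>
    le_of_norm hG h.norm (D := (centralizer {π u}).comap π)
      (fun a ha => mem_centralizer_singleton_iff.2 (qc a ha u h.u_mem))
      (fun hs => m1 (by rw [map_mul, map_mul, mem_centralizer_singleton_iff.1 hs]; simp))
      (mem_centralizer_singleton_iff.2 hg)
  have su := h.s_mem u h.u_mem
  have dh : DH {w | ∃ g, w = g * π u * g⁻¹} := by
    refine dh_of (m := π (s * u * s⁻¹)) (by rw [← map_mul, h.uu, fz])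
      (fun e' => h.un (fN _ _ (one_mem N) (by rw [e', map_one]))) (πs.forall₂.2 fun a b ha hb =>
        qc a (cQ a ha) b (cQ b hb)) ⟨π s, by simp⟩ m1 (qc _ su _ h.u_mem)
      (πs.forall.2 fun g hg => ?_) (πs.forall.2 fun t ht e' => h.uun
        (fN _ _ (h.sq t (cQ t ht)) (by rw [map_mul π u, ← e', map_mul])))
    have h1 := cQ (g * u * g⁻¹) (by simpa using hg)
    rcases h.norm g⁻¹ fun x hx => cQ _ (by
      have := qc x hx _ h1
      simp only [map_mul, map_inv, inv_inv] at this ⊢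
      calc _ = (π g)⁻¹ * (π x * (π g * π u * (π g)⁻¹)) * π g := by group
        _ = _ := by rw [this]; group) with h2 | h2
    · exact .inl (by rw [qc g (inv_mem_iff.1 h2) u h.u_mem, mul_inv_cancel_right])
    · have ss : s * s ∈ Q := (h.norm (s * s) fun x hx => by
        simpa [mul_assoc] using h.s_mem _ (h.s_mem x hx)).elim id fun h => by
          rw [inv_mul_cancel_left] at h; exact mul_mem h h
      have h3 := qc _ (inv_mem (mul_mem ss h2)) _ su
      refine .inr (Eq.trans ?_ (mul_inv_eq_iff_eq_mul.2 h3))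
      simp only [map_mul, map_inv]; group
  obtain ⟨_, ⟨g1, rfl⟩, _, ⟨g2, rfl⟩, hc⟩ := exists_cyc (hG.to_quotient _) dh ⟨π u, 1, by simp⟩
  obtain ⟨g1, rfl⟩ := πs g1
  obtain ⟨g2, rfl⟩ := πs g2
  have c2 : ∀ g, g * u * g⁻¹ * (g * u * g⁻¹) = e := fun g => by
    rw [conj_mul, h.uu, ce, mul_inv_cancel_right]
  have ci : ∀ g, (g * u * g⁻¹)⁻¹ = e * (g * u * g⁻¹) := fun g => by
    rw [inv_eq_iff_mul_eq_one, ← mul_assoc, ce, mul_assoc, c2, h.ee]
  set u1 := g1 * u * g1⁻¹ with hu1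
  set v := u1 * (g2 * u * g2⁻¹) with hv
  have hc' : ∀ g, π (g * u * g⁻¹ * u1) ∈ zpowers (π v) := fun g => by
    simpa [hv, hu1] using hc _ ⟨π g, rfl⟩
  have lift : ∀ a, π a ∈ zpowers (π v) → ∃ y ∈ zpowers v, a = y ∨ a = e * y := fun a ⟨k, hk⟩ =>
    ⟨_, zpow_mem_zpowers v k, fe _ _ (by rw [map_zpow]; exact hk.symm)⟩
  have ev : ∃ y ∈ zpowers v, e = y * y := by
    obtain ⟨y, hy, e'⟩ := lift (u * (s * u * s⁻¹)) (by
      convert mul_mem (hc' 1) (inv_mem (hc' s)) using 1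
      rw [← map_inv, mul_inv_rev (s * u * s⁻¹), ci s, ← map_mul]
      simp [fz, mul_assoc])
    refine ⟨y, hy, h.ij.symm.trans ?_⟩
    rcases e' with e' | e' <;> rw [e']
    rw [mul_assoc, ← mul_assoc y, ce y, ← mul_assoc, ← mul_assoc, h.ee, one_mul]
  have ev' : e ∈ zpowers v := by obtain ⟨y, hy, rfl⟩ := ev; exact mul_mem hy hy
  have k : ∀ g, g * u * g⁻¹ * u1 ∈ zpowers v := fun g => by
    obtain ⟨y, hy, e' | e'⟩ := lift _ (hc' g) <;> rw [e']
    exacts [hy, mul_mem ev' hy]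
  have k' : ∀ g g', g * u * g⁻¹ * (g' * u * g'⁻¹) ∈ zpowers v := fun g g' => by
    convert mul_mem (mul_mem (k g) (inv_mem (k g'))) ev' using 1
    rw [← c2 g']; group
  have iv : ∀ a ∈ zpowers v, u1⁻¹ * a * u1 = a⁻¹ := by
    rintro _ ⟨j, rfl⟩
    have : u1⁻¹ * v * u1⁻¹⁻¹ = v⁻¹ := by
      rw [hv, mul_inv_rev u1, inv_mul_cancel_left, inv_inv, ci g2, ci g1, mul_assoc e,
        ← mul_assoc _ e, ce, ← mul_assoc e, ← mul_assoc e, h.ee, one_mul]
    simp only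
    rw [← inv_zpow, ← this, conj_zpow, inv_inv]
  refine ⟨v, ⟨?_⟩, ev, fun g => ?_, fun a ha => ?_, fun w hw => cQ w (by rw [← map_mul, hw, map_mul])⟩
  · rintro _ ⟨j, rfl⟩ g
    simp only [← conj_zpow]
    refine zpow_mem ?_ j
    convert k' (g * g1) (g * g2) using 1
    rw [hv, hu1]; group
  · convert mul_mem (k' g 1) (inv_mem ev') using 1
    rw [← h.uu, commutatorElement_def]; group
  · have h1 : u * u1 ∈ zpowers v := by simpa using k 1
    have h2 : Commute (u * u1) a⁻¹ := by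
      obtain ⟨i, hi⟩ := h1; obtain ⟨j, hj⟩ := inv_mem ha
      rw [← hi, ← hj]; exact zpow_mul_comm v i j
    calc _ = u * u1 * (u1⁻¹ * a * u1) * (u * u1)⁻¹ := by group
      _ = _ := by rw [iv a ha, h2.eq, mul_inv_cancel_right]

theorem cyclic (ce : ∀ g, g * e = e * g) {x y : G} (hb : Bi x y) : IsCyclic (commutator G) := by
  obtain ⟨v, vn, ⟨w, hw, ew⟩, k1, k2, k3⟩ := h.core hG ce
  have uu : u * u ∈ N := h.sq u h.u_mem
  have hu : u ∉ frattini G := by
    by_cases v2 : v * v = 1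
    · have cs : ∀ g : G, g ∈ Q ∨ ⁅g, u⁆ = v := fun g => by
        obtain ⟨k, hk⟩ := k1 g
        exact (zpow_cases v2 k).imp (fun e => k3 g (commutatorElement_eq_one_iff_mul_comm.1
          (hk.symm.trans e.2))) fun e => hk.symm.trans e.2
      refine not_mem_frattini (fun g => (cs g).imp_right fun hg => k3 _ ?_) h.s_mem h.sq h.le
        fun hu => h.uun (by simpa [mul_assoc] using mul_mem uu hu)
      have h1 := (cs s).resolve_left fun hs => h.uun (by
        rcases h.cm s hs u h.u_mem with e' | e' <;> rw [e']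
        · simpa using uu
        · rw [mul_assoc e, mul_inv_cancel_right, ← mul_assoc, ce, mul_assoc]
          exact mul_mem h.e_mem uu)
      have h2 := mul_right_cancel (hg.trans h1.symm)
      calc _ = s⁻¹ * (g * u * g⁻¹) * g := by group
        _ = _ := by rw [h2]; group
    obtain ⟨k, y1, y2⟩ := Grp.PChain.exists_pow_notMem_pow_mem hG ⊥ (u := v * v) v2
    rw [mem_bot, (Commute.refl v).mul_pow] at y1 y2
    have yv : v ^ 2 ^ k ∈ zpowers v := npow_mem_zpowers v _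
    generalize v ^ 2 ^ k = y at y1 y2 yv
    have yn := normal_of_le_cyclic (isCyclic_zpowers v) (zpowers_le.2 yv)
    have y4 : y ^ (4 : ℤ) = 1 := by
      rw [← y2, ← pow_two, ← pow_mul, ← zpow_natCast]; rfl
    intro hu
    have := mem_centralizer_singleton_iff.1 (frattini_le_of_sq (N := centralizer {y}) (fun g => by
      obtain ⟨j, hj⟩ := yn.conj_mem y (mem_zpowers y) g
      simp only at hj
      rw [mem_centralizer_singleton_iff, ← mul_inv_eq_iff_eq_mul]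
      rcases Int.even_or_odd' j with ⟨l, rfl | rfl⟩
      · refine (y1 ?_).elim
        have : g * (y * y) * g⁻¹ = 1 := by
          rw [← conj_mul, ← hj, ← zpow_add, show 2 * l + 2 * l = 4 * l by ring, zpow_mul, y4, one_zpow]
        simpa using this
      · calc _ = g * (g * y * g⁻¹) * g⁻¹ := by group
          _ = y ^ (4 * (l * l + l) + 1) := by
            rw [← hj, ← conj_zpow, ← hj, ← zpow_mul]; congr 1; ring
          _ = _ := by rw [zpow_add, zpow_mul, y4, one_zpow, one_mul, zpow_one]) hu)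
    exact y1 (by rw [mul_eq_one_iff_eq_inv, ← k2 y yv, this, mul_inv_cancel_right])
  obtain ⟨b, hb⟩ : ∃ b, zpowers u ⊔ zpowers b = ⊤ := (hb.exists_gen hG hu).elim (⟨x, ·⟩) (⟨y, ·⟩)
  exact isCyclic_of_le (commutator_le_of_gen ((sup_comm _ _).trans hb) (k1 b))

theorem central (cQ : ∀ q ∈ Q, q * e = e * q)
    (cen : e ≠ 1 → ∀ a ∈ Q, ∀ b ∈ Q, Commute a u → Commute a (s * u * s⁻¹) → Commute b u →
      Commute b (s * u * s⁻¹) → a * b = b * a) (jj : s * e = e * s) (g : G) : g * e = e * g := by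
  by_contra hn
  have e1 : e ≠ 1 := fun e1 => hn (by simp [e1])
  set H := centralizer {e} with hH
  have mH : ∀ {g}, g ∈ H ↔ g * e = e * g := mem_centralizer_singleton_iff
  have QH : Q ≤ H := fun q hq => mH.2 (cQ q hq)
  obtain ⟨g, ⟨-, g1⟩, g2⟩ := SetLike.exists_of_lt (lt_normalizerIn (hG.to_subgroup ⊤)
    (lt_top_iff_ne_top.2 fun e : H = ⊤ => hn (mH.1 (e ▸ mem_top g))))
  have h' : CA (Q.subgroupOf H) (N.subgroupOf H) ⟨s, mH.2 jj⟩ ⟨u, QH h.u_mem⟩ ⟨e, mH.2 rfl⟩ :=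
    ⟨fun g hg => h.norm g fun x hx => hg ⟨x, QH hx⟩ hx, fun x hx => h.s_mem x hx, h.u_mem, h.e_mem,
      fun x hx => h.le hx, Subtype.ext h.ee, Subtype.ext h.uu, Subtype.ext h.ij,
      fun a ha b hb => (h.cm a ha b hb).imp Subtype.ext Subtype.ext, fun q hq => h.sq q hq,
      h.un, h.uun⟩
  obtain ⟨v, vn, ⟨w, hw, ew⟩, k1, -, k3⟩ := h'.core (hG.to_subgroup H) fun g => Subtype.ext (mH.1 g.2)
  have co : ∀ {a : H}, a ∈ zpowers v → (a : G) ∈ zpowers (v : G) := by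
    rintro _ ⟨k, rfl⟩; exact ⟨k, by simp⟩
  have ev : e ∈ zpowers (v : G) := co (ew ▸ mul_mem hw hw : (⟨e, mH.2 rfl⟩ : H) ∈ zpowers v)
  have k4 : ∀ p, p = u ∨ p = s * u * s⁻¹ → p ∈ H ∧ ∀ a ∈ H, ⁅a, p⁆ ∈ zpowers (v : G) := by
    rintro _ (rfl | rfl)
    · exact ⟨QH h.u_mem, fun a ha => co (k1 ⟨a, ha⟩)⟩
    · refine ⟨QH (h.s_mem u h.u_mem), fun a ha => ?_⟩
      convert co (vn.conj_mem _ (k1 (⟨s, mH.2 jj⟩⁻¹ * ⟨a, ha⟩ * ⟨s, mH.2 jj⟩)) ⟨s, mH.2 jj⟩) using 1
      simp only [commutatorElement_def, coe_mul, coe_inv]; group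
  have k5 : ∀ p, p = u ∨ p = s * u * s⁻¹ → ∀ q, q = u ∨ q = s * u * s⁻¹ →
      Commute (g * p * g⁻¹) q := fun p hp q hq => by
    have c1 := (k4 q hq).2 _ ((g1 p).1 (k4 p hp).1)
    have c2 : g⁻¹ * ⁅g * p * g⁻¹, q⁆ * g ∈ zpowers (v : G) := by
      convert inv_mem ((k4 p hp).2 (g⁻¹ * q * g) ((g1 _).2 (by simpa [mul_assoc] using (k4 q hq).1)))
        using 1
      simp only [commutatorElement_def]; group
    rw [← commutatorElement_eq_one_iff_commute]
    generalize ⁅g * p * g⁻¹, q⁆ = c at c1 c2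
    by_contra c3
    obtain ⟨k, y1, y2⟩ := Grp.PChain.exists_pow_notMem_pow_mem hG ⊥ (u := c) c3
    rw [mem_bot] at y1 y2
    rw [pow_two] at y2
    have c4 := pow_mem c2 (2 ^ k)
    rw [show g⁻¹ * c * g = g⁻¹ * c * g⁻¹⁻¹ by rw [inv_inv], conj_pow,
      inv_unique hG (pow_mem c1 _) ev y1 e1 y2 h.ee] at c4
    have c5 := inv_unique hG c4 ev (fun e => e1 (conj_eq_one_iff.1 e)) e1 (by rw [conj_mul, h.ee]; simp) h.ee
    exact g2 (inv_mem_iff.1 (mH.2 (mul_inv_eq_iff_eq_mul.1 c5)))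
  have k6 : ∀ p, p = u ∨ p = s * u * s⁻¹ → g * p * g⁻¹ ∈ Q := fun p hp =>
    k3 ⟨_, (g1 p).1 (k4 p hp).1⟩ (Subtype.ext (k5 p hp u (.inl rfl)))
  have c := cen e1 _ (k6 _ (.inl rfl)) _ (k6 _ (.inr rfl)) (k5 _ (.inl rfl) _ (.inl rfl))
    (k5 _ (.inl rfl) _ (.inr rfl)) (k5 _ (.inr rfl) _ (.inl rfl)) (k5 _ (.inr rfl) _ (.inr rfl))
  rw [conj_mul, conj_mul, mul_left_inj, mul_right_inj] at c
  refine e1 (h.ij.symm.trans ?_)
  rw [mul_assoc, ← mul_assoc _ u, ← c, mul_assoc, ← mul_assoc u, conj_mul, h.uu, jj,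
    mul_inv_cancel_right, h.ee]

end CA

end Cfsg.Agent.Bicyc
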