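import Mathlib
import Cfsg.Agent.Bicyc.DihCase

/-!
A bicyclic nonmetacyclic `2`-group with a saturated fusion system that is not inner has cyclic
derived subgroup.
-/

set_option autoImplicit false

namespace Cfsg.Agent.Bicyc

open Cfsg Cfsg.FusionSystem Cfsg.Agent.Fus Subgroup Cfsg.Agent.FT.R2 Cfsg.Agent.Fus.AC
open scoped commutatorElement

variable {G : Type*} [Group G] [Finite G]

theorem HC.cent (hG : IsPGroup 2 G) {β σ : MulAut G} {R : Subgroup G} (h : HC β σ R) {q : G}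
    {T : Set G} (hT : ∀ r ∈ R, ⁅q, r⁆ ∈ T)
    (un : ∀ a ∈ T, ∀ b ∈ T, a ≠ 1 → b ≠ 1 → a * a = 1 → b * b = 1 → a = b) :
    ∀ r ∈ R, q * r = r * q := fun r hr => by
  obtain ⟨c, hc, r0, hr0, rfl⟩ := h.dec q
  have e : ∀ r ∈ R, ⁅c * r0, r⁆ = ⁅c, r⁆ := fun r hr => by
    calc _ = c * (r0 * r) * r0⁻¹ * c⁻¹ * r⁻¹ := by rw [commutatorElement_def]; group
      _ = _ := by rw [h.comm r0 hr0 r hr, commutatorElement_def]; group
  have m : ∀ r ∈ R, ⁅c, r⁆ ∈ R := fun r hr => mul_mem (h.normal.conj_mem r hr c) (inv_mem hr)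
  rw [← commutatorElement_eq_one_iff_mul_comm, e r hr]
  by_contra c3
  obtain ⟨k, y1, y2⟩ := Grp.PChain.exists_pow_notMem_pow_mem hG ⊥ (u := ⁅c, r⁆) c3
  have e2 : ⁅c, r⁆ ^ 2 ^ k = ⁅c, r ^ 2 ^ k⁆ := by
    rw [commutatorElement_def, Commute.mul_pow (h.comm _ (h.normal.conj_mem r hr c) _ (inv_mem hr)),
      conj_pow, inv_pow, commutatorElement_def]
  rw [mem_bot, e2] at y1 y2
  rw [pow_two] at y2
  have h1 := pow_mem hr (2 ^ k)
  have e3 : β ⁅c, r ^ 2 ^ k⁆ = ⁅c, β (r ^ 2 ^ k)⁆ := by rw [map_commutatorElement, hc]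
  refine y1 (h.fix _ (m _ h1) (un _ (e3 ▸ e _ (h.bR _ h1) ▸ hT _ (h.bR _ h1)) _ (e _ h1 ▸ hT _ h1)
    (mt (MulEquiv.map_eq_one_iff β).1 y1) y1 (by rw [← map_mul, y2, map_one]) y2))

theorem exists_coatom (hG : IsPGroup 2 G) (hm : ¬ IsMetacyclic G) {x y : G} (hb : Bi x y) :
    ∃ M : Subgroup G, M.index = 2 ∧ x ∈ M ∧ IsMetacyclic M := by
  obtain ⟨M, hM, hle⟩ := (eq_top_or_exists_le_coatom (zpowers x)).resolve_left fun e =>
    hm (isMetacyclic_iff.2 ⟨x, x, e ▸ inferInstance, by simp [e]⟩)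
  have hi := Grp.PFrattini.index_of_isCoatom hG hM
  exact ⟨M, hi, hle (mem_zpowers x), janko G hG x y hb M hi (hle (mem_zpowers x))⟩

theorem hc_cyclic (hG : IsPGroup 2 G) (hm : ¬ IsMetacyclic G) {x y : G} (hb : Bi x y)
    {Q R N : Subgroup G} {s : G}
    (norm : ∀ g, (∀ x ∈ Q, g * x * g⁻¹ ∈ Q) → g ∈ Q ∨ s⁻¹ * g ∈ Q)
    (hs : ∀ x ∈ Q, s * x * s⁻¹ ∈ Q) (RQ : R ≤ Q) (Rn : ∀ q ∈ Q, ∀ r ∈ R, q * r * q⁻¹ ∈ R)
    (sR : ∀ r ∈ R, s * r * s⁻¹ ∈ R) (cm : ∀ a ∈ R, ∀ b ∈ R, a * b = b * a)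
    (sq : ∀ r ∈ R, r * r = 1 → ∃ t ∈ R, r = t * t)
    (cen : ∀ r ∈ R, r * r = 1 → ∀ q ∈ Q, q * r = r * q) (ex : ∃ r ∈ R, r * r = 1 ∧ s * r * s⁻¹ ≠ r)
    (hN : ∀ q ∈ Q, q * q ∈ N) (NQ : N ≤ Q) (ex' : ∃ r ∈ R, r⁻¹ * (s * r * s⁻¹) ∉ N)
    (cyc : ∀ q ∈ Q, ∀ a, (∀ r ∈ R, ⁅q, r⁆ ∈ zpowers a) → ∀ r ∈ R, q * r = r * q) :
    IsCyclic (commutator G) := by
  obtain ⟨u, uR, u2, su⟩ := ex
  have u1 : u ≠ 1 := fun e => su (by simp [e])
  have cQ : ∀ g, g * u = u * g → g ∈ Q := fun g hg => le_of_norm hG norm (D := centralizer {u})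
    (fun q hq => mem_centralizer_singleton_iff.2 (cen u uR u2 q hq))
    (fun h => su (by rw [mem_centralizer_singleton_iff.1 h, mul_inv_cancel_right]))
    (mem_centralizer_singleton_iff.2 hg)
  have nR : ∀ g ∈ normalizerIn ⊤ Q, ∀ r ∈ R, g * r * g⁻¹ ∈ R := fun g hg r hr => by
    rcases norm g fun x hx => conj_mem_of_mem_normalizerIn hg hx with h | h
    · exact Rn g h r hr
    · convert sR _ (Rn _ h r hr) using 1; group
  have Qn : normalizerIn ⊤ Q = ⊤ := by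
    by_contra hn
    obtain ⟨g, ⟨-, g1⟩, g2⟩ := SetLike.exists_of_lt (lt_normalizerIn (hG.to_subgroup ⊤)
      (lt_top_iff_ne_top.2 hn))
    have QN : Q ≤ normalizerIn ⊤ Q := le_normalizerIn le_top
    have w1 := (g1 u).1 (QN (RQ uR))
    obtain ⟨t, tR, ht⟩ := sq u uR u2
    have t1 : g⁻¹ * t * g ∈ normalizerIn ⊤ Q := (g1 _).2 (by simpa [mul_assoc] using QN (RQ tR))
    have t2 := nR _ t1 u uR
    have t3 : ⁅g⁻¹ * t * g, u⁆ * ⁅g⁻¹ * t * g, u⁆ = 1 := by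
      rw [commutatorElement_def, Commute.mul_mul_mul_comm (cm _ (inv_mem uR) _ t2), conj_mul, u2,
        ← mul_inv_rev, u2]
      simp
    have t4 := nR _ w1 _ (inv_mem tR)
    have wQ : g * u * g⁻¹ ∈ Q := cQ _ (by
      have e : ⁅g⁻¹ * t * g, u⁆ = g⁻¹ * (t * (g * u * g⁻¹ * t⁻¹ * (g * u * g⁻¹)⁻¹)) * g⁻¹⁻¹ := by
        rw [commutatorElement_def]; group
      rw [e, conj_mul, conj_eq_one_iff, Commute.mul_mul_mul_comm (cm _ t4 t tR),
        conj_mul, ← mul_inv_rev, ← ht, ← mul_assoc, ← mul_assoc, mul_inv_eq_one,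
        mul_inv_eq_iff_eq_mul] at t3
      exact t3.symm)
    obtain ⟨K, K2, -, Km⟩ := exists_coatom hG hm hb
    have Kn := normal_of_index_eq_two K2
    have UK : om R cm ≤ K := fun r hr => by
      obtain ⟨t, -, rfl⟩ := sq r hr.1 hr.2
      exact mul_self_mem_of_index_two K2 t
    have Ac := Grp.PChain.isMulCommutative_sup_zpowers (Grp.PChain.isMulCommutative_of_commute
      (A := om R cm) fun a ha b hb => cm a ha.1 b hb.1) (u := g * u * g⁻¹)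
      fun r hr => (cen r hr.1 hr.2 _ wQ).symm
    have Ac' := fun a ha b hb => (Grp.PChain.commute_of_mem Ac (a := a) (b := b) ha hb).eq
    have s2 : s * u * s⁻¹ * (s * u * s⁻¹) = 1 := by rw [conj_mul, u2]; simp
    have w2 : g * u * g⁻¹ * (g * u * g⁻¹) = 1 := by rw [conj_mul, u2]; simp
    have wR := (le_of_card_le_four (K := om _ Ac' ⊓ R) (card_om_le Ac' (isMetacyclic_of_le
      (sup_le UK (zpowers_le.2 (Kn.conj_mem u (UK ⟨uR, u2⟩) g))) Km)) inf_le_left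
      ⟨⟨mem_sup_left ⟨uR, u2⟩, u2⟩, uR⟩ ⟨⟨mem_sup_left ⟨sR u uR, s2⟩, s2⟩, sR u uR⟩ u1
      (by simpa using u1) su.symm ⟨mem_sup_right (mem_zpowers _), w2⟩).2
    refine g2 (inv_mem_iff.1 (mem_normalizerIn_of_conj trivial fun q hq => cQ _ ?_))
    calc _ = g⁻¹ * (q * (g * u * g⁻¹)) * g := by group
      _ = _ := by rw [cen _ wR w2 q hq]; group
  have two : ∀ g, g ∈ Q ∨ s⁻¹ * g ∈ Q := fun g => norm g fun x hx =>
    conj_mem_of_mem_normalizerIn (Qn.ge (mem_top g)) hx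
  have Rn' : R.Normal := ⟨fun r hr g => nR g (Qn.ge (mem_top g)) r hr⟩
  obtain ⟨v, vR, hv⟩ := ex'
  obtain ⟨b, c, hb, gen⟩ : ∃ b c, Bi b c ∧ zpowers v ⊔ zpowers b = ⊤ :=
    (hb.exists_gen hG (not_mem_frattini two hs hN NQ hv)).elim (⟨x, y, hb, ·⟩) (⟨y, x, hb.symm, ·⟩)
  obtain ⟨M, M2, bM, Mm⟩ := exists_coatom hG hm hb
  obtain ⟨a, a', an, ha⟩ := isMetacyclic_iff.1 Mm
  have ca : ∀ m ∈ M, ⁅b, m⁆ ∈ zpowers (a : G) := fun m hm => by
    obtain ⟨k, hk⟩ := commutator_le_of_gen (N := zpowers a) ha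
      (by simpa [commutatorElement_def, mul_assoc] using
        mul_mem (mem_zpowers a) (an.conj_mem _ (inv_mem (mem_zpowers a)) a'))
      (commutator_mem_commutator (mem_top (⟨b, bM⟩ : M)) (mem_top ⟨m, hm⟩))
    exact ⟨k, by simpa [commutatorElement_def] using congrArg Subtype.val hk⟩
  have Qsq : b * b ∈ Q := frattini_le_of_sq (N := Q) (fun g => by
    have ss : s * s ∈ Q := (two (s * s)).elim id fun h => by
      rw [inv_mul_cancel_left] at h; exact mul_mem h h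
    rcases two g with hg | hg
    · exact mul_mem hg hg
    · convert mul_mem (mul_mem (hs _ hg) ss) hg using 1; group) (sq_mem_frattini hG b)
  have mR : ∀ r ∈ R, ⁅b, r⁆ ∈ R := fun r hr => mul_mem (Rn'.conj_mem r hr b) (inv_mem hr)
  have b2 := cyc _ Qsq a fun r hr => by
    have h1 := ca ⁅b, r⁆ (frattini_le_of_sq (fun g => mul_self_mem_of_index_two M2 g)
      (Grp.PFrattini.commutator_le_frattini hG (commutator_mem_commutator trivial trivial)))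
    have h2 := ca _ (mul_self_mem_of_index_two M2 r)
    convert mul_mem h1 h2 using 1
    have h4 := cm _ (Rn'.conj_mem r hr b) _ hr
    simp only [commutatorElement_def]
    calc _ = b * b * r * b⁻¹ * r⁻¹ * b⁻¹ * (b * r * b⁻¹ * r) * r⁻¹ * r⁻¹ := by group
      _ = _ := by rw [h4]; group
  have k : ∀ g, g * ⁅b, v⁆ * g⁻¹ ∈ zpowers ⁅b, v⁆ → g ∈ normalizerIn ⊤ (zpowers ⁅b, v⁆) :=
    fun g hg => mem_normalizerIn_of_conj trivial (by
      rintro _ ⟨k, rfl⟩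
      simp only [← conj_zpow]; exact zpow_mem hg k)
  have fn : (zpowers ⁅b, v⁆).Normal := ⟨fun a ha g => conj_mem_of_mem_normalizerIn
    (gen.ge.trans (sup_le (zpowers_le.2 (k v (by
      rw [cm v vR _ (mR v vR), mul_inv_cancel_right]; exact mem_zpowers _))) (zpowers_le.2 (k b (by
      convert inv_mem (mem_zpowers ⁅b, v⁆) using 1
      simp only [commutatorElement_def]
      calc _ = b * b * v * b⁻¹ * v⁻¹ * b⁻¹ := by group
        _ = _ := by rw [b2 v vR]; group)))) (mem_top g)) ha⟩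
  exact isCyclic_of_le (commutator_le_of_gen ((sup_comm _ _).trans gen) (mem_zpowers _))

namespace QR
omit [Finite G]
variable {C : Subgroup G} {i j e : G} (h : QR C i j e)
include h

theorem cm {a b : G} (ha : a ∈ qx C i j) (hb : b ∈ qx C i j) : a * b = b * a ∨ a * b = e * (b * a) := by
  obtain ⟨⟨x, hx, e1⟩, y, hy, e2⟩ := h.conj ha
  have eC : zpowers e ≤ C := zpowers_le.2 h.e_mem
  have k : ∀ z ∈ zpowers e, ∀ c ∈ C, ∀ d, a * d * a⁻¹ = z * d →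
      a * (c * d) = c * d * a ∨ a * (c * d) = e * (c * d * a) := fun z hz c hc d e' => by
    rw [← mul_assoc, h.comm ha hc, mul_assoc, mul_inv_eq_iff_eq_mul.1 e', ← mul_assoc, ← mul_assoc,
      h.cc c hc z (eC hz)]
    rcases h.e_cases hz with rfl | rfl <;> simp [mul_assoc]
  obtain ⟨c, hc, rfl | rfl | rfl | rfl⟩ := h.cases hb
  · exact .inl (h.comm ha hc)
  · exact k x hx c hc i e1
  · exact k y hy c hc j e2
  · refine k _ (mul_mem hx hy) c hc _ ?_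
    rw [← conj_mul, e1, e2, mul_assoc, ← mul_assoc i, h.ci y (eC hy)]; group

theorem sq {a : G} (ha : a ∈ qx C i j) : a * a ∈ C := by
  have k : ∀ c ∈ C, ∀ d, d * c = c * d → d * d = e → c * d * (c * d) ∈ C := fun c hc d h1 h2 => by
    rw [mul_assoc, ← mul_assoc d, h1, mul_assoc, h2]; exact mul_mem hc (mul_mem hc h.e_mem)
  obtain ⟨c, hc, rfl | rfl | rfl | rfl⟩ := h.cases ha
  exacts [mul_mem hc hc, k c hc i (h.ci c hc) h.ii, k c hc j (h.cj c hc) h.jj,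
    k c hc _ (h.cij c hc) h.ij]

theorem cen (e1 : e ≠ 1) {a : G} (ha : a ∈ qx C i j) (h1 : a * i = i * a) (h2 : a * j = j * a) :
    a ∈ C := by
  have k : i * j ≠ j * i := fun e' => e1 (by simpa [← e'] using h.ji)
  obtain ⟨c, hc, rfl | rfl | rfl | rfl⟩ := h.cases ha
  · exact hc
  · rw [← mul_assoc, h.cj c hc, mul_assoc, mul_assoc, mul_right_inj] at h2; exact (k h2).elim
  · rw [← mul_assoc, h.ci c hc, mul_assoc, mul_assoc, mul_right_inj] at h1; exact (k h1.symm).elim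
  · rw [← mul_assoc i, h.ci c hc, mul_assoc, mul_assoc, mul_assoc, mul_right_inj, mul_right_inj] at h1
    exact (k h1.symm).elim

end QR

theorem cyclic_of_noninner (hG : IsPGroup 2 G) (hm : ¬ IsMetacyclic G) {x y : G} (hb : Bi x y)
    {F : FusionSystem (⊤ : Subgroup G)} (hF : F.IsSaturated 2) (hne : F ≠ innerFusionSystem ⊤) :
    IsCyclic (commutator G) := by
  have hM : HM G := by
    obtain ⟨M, h1, -, h2⟩ := exists_coatom hG hm hb
    exact ⟨M, h1.dvd, h2⟩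
  obtain ⟨Q, s, β, h⟩ := exists_loc hG hM ((hb.map _ (QuotientGroup.mk'_surjective (frattini G))).card_le
    (quot_sq hG _) (quot_sq hG _)) hm hF hne
  have hs : s ∈ normalizer (Q : Set G) := (mem_normalizerIn_of_conj (S := ⊤) trivial h.s_mem).2
  have hQ := hG.to_subgroup Q
  have cσ : ∀ x : Q, (conjAut Q s hs x : G) = s * x * s⁻¹ := fun _ => rfl
  generalize conjAut Q s hs = σ at cσ
  rcases split hQ (hM.sub Q) h.ne h.cube (σ := σ) (mul_inv_eq_iff_eq_mul.2 (MulEquiv.ext fun x =>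
    Subtype.ext (by
      have := h.inv x x.2
      rwa [afn_coe, ← cσ, ← cσ, afn_coe] at this))) with ⟨u, e, q, u1, -, u3, top⟩ | ⟨R, hR⟩
  · have m : ∀ a : Q, a ∈ qx (fix₁ β) u (σ u) := fun a => top ▸ mem_top a
    have mm : ∀ a : Q, (a : G) ∈ (fix₁ β).map Q.subtype ↔ a ∈ fix₁ β := fun a =>
      mem_map_iff_mem Q.subtype_injective
    have ca : CA Q ((fix₁ β).map Q.subtype) s u e := ⟨h.norm, h.s_mem, u.2, (mm e).2 q.e_mem,
      map_subtype_le _, congrArg Subtype.val q.ee, congrArg Subtype.val q.ii,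
      cσ u ▸ congrArg Subtype.val q.ij, fun a ha b hb => (q.cm (m ⟨a, ha⟩) (m ⟨b, hb⟩)).imp
        (congrArg Subtype.val) (congrArg Subtype.val), fun a ha => (mm _).2 (q.sq (m ⟨a, ha⟩)),
      mt (mm u).1 u1, cσ u ▸ mt (mm (u * σ u)).1 u3⟩
    refine ca.cyclic hG (ca.central hG (fun a ha => congrArg Subtype.val (q.comm (m ⟨a, ha⟩) q.e_mem))
      (fun e1 a ha b hb a1 a2 b1 b2 => ?_) ?_) hb
    · rw [← cσ] at a2 b2
      have e1' : e ≠ 1 := fun e' => e1 (congrArg Subtype.val e')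
      exact congrArg Subtype.val (q.cc _ (q.cen e1' (m ⟨a, ha⟩) (Subtype.ext a1) (Subtype.ext a2)) _
        (q.cen e1' (m ⟨b, hb⟩) (Subtype.ext b1) (Subtype.ext b2)))
    · rw [← mul_inv_eq_iff_eq_mul, ← cσ]
      exact congrArg Subtype.val (by rw [← q.ii, map_mul, q.jj, q.ii])
  · refine hc_cyclic hG hm hb (R := R.map Q.subtype) (N := (frattini Q).map Q.subtype) h.norm h.s_mem
      (map_subtype_le _) ?_ ?_ ?_ ?_ ?_ ?_ (fun a ha => ⟨_, sq_mem_frattini hQ ⟨a, ha⟩, rfl⟩)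
      (map_subtype_le _) ?_ ?_
    · rintro a ha _ ⟨r, hr, rfl⟩; exact ⟨_, hR.normal.conj_mem r hr ⟨a, ha⟩, rfl⟩
    · rintro _ ⟨r, hr, rfl⟩; exact ⟨_, hR.sR r hr, cσ r⟩
    · rintro _ ⟨a, ha, rfl⟩ _ ⟨b, hb, rfl⟩; exact congrArg Subtype.val (hR.comm a ha b hb)
    · rintro _ ⟨r, hr, rfl⟩ e
      obtain ⟨t, ht, rfl⟩ := hR.sq r hr (Subtype.ext e)
      exact ⟨t, ⟨t, ht, rfl⟩, rfl⟩
    · rintro _ ⟨r, hr, rfl⟩ e a ha; exact congrArg Subtype.val (hR.cen r hr (Subtype.ext e) ⟨a, ha⟩)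
    · obtain ⟨r, hr, h1, h2⟩ := hR.ex
      exact ⟨r, ⟨r, hr, rfl⟩, congrArg Subtype.val h1, fun e => h2 (Subtype.ext ((cσ r).trans e))⟩
    · obtain ⟨r, hr, h1⟩ := hR.ex'
      exact ⟨r, ⟨r, hr, rfl⟩, cσ r ▸ mt (mem_map_iff_mem (x := r⁻¹ * σ r)
        Q.subtype_injective).1 h1⟩
    · rintro a ha v hv _ ⟨r, hr, rfl⟩
      exact congrArg Subtype.val (hR.cent hQ (q := ⟨a, ha⟩) (T := {t | (t : G) ∈ zpowers v})
        (fun r hr => hv r ⟨r, hr, rfl⟩) (fun a ha b hb a1 b1 a2 b2 => Subtype.ext (inv_unique hG ha hb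
          (by simpa using a1) (by simpa using b1) (congrArg Subtype.val a2) (congrArg Subtype.val b2)))
        r hr)

end Cfsg.Agent.Bicyc
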